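import Cfsg.Agent.Lib.Invol.CentRank.Cyclic.Torus
import Cfsg.Agent.Lib.Invol.CentRank.Statement
import Cfsg.Agent.Lib.Invol.GW.Consumers.DGroupEven
import Cfsg.Agent.Lib.Lie.TwoPronormalPSL
import Cfsg.Agent.Lib.Invol.MinNonCA.Mod
import Cfsg.Agent.S2126

/-!
# Cyclic Sylow 2-intersections, from G1

Modulo the solvable radical the socle is one of the groups with rank one intersections; it has odd index, as
these groups have torus data or, for the Suzuki groups, odd outer automorphism group.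
-/

set_option autoImplicit false
set_option linter.style.haveILetI false
set_option linter.unusedSectionVars false

open Subgroup

namespace Cfsg.Agent.Invol.CentRank.Cyc

universe u

theorem sylow_card {B : Type*} [Group B] [Finite B] {k m : ℕ} (h : Nat.card B = 2 ^ k * m) (hm : Odd m)
    (P : Sylow 2 B) : Nat.card (P : Subgroup B) = 2 ^ k := by
  haveI : Fact (Nat.Prime 2) := ⟨Nat.prime_two⟩
  have h2 : ¬ 2 ∣ m := fun e => Nat.not_even_iff_odd.2 hm (even_iff_two_dvd.2 e)
  rw [Sylow.card_eq_multiplicity, h, Nat.factorization_mul (by positivity) hm.pos.ne', Finsupp.add_apply,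
    Nat.Prime.factorization_pow Nat.prime_two, Finsupp.single_eq_same,
    Nat.factorization_eq_zero_of_not_dvd h2, add_zero]

theorem concl_congr {A B : Type u} [Group A] [Group B] (h : Concl A) (e : A ≃* B) (hB : IsSimpleGroup B) :
    Concl B := by
  rcases h with ⟨n, F, i, j, hn, hF, ⟨f⟩⟩ | ⟨m, F, i, j, hn, hF, ⟨f⟩⟩ | ⟨n, F, i, j, hn, hF, ⟨f⟩⟩ |
    ⟨F, i, j, hq, hF, ⟨f⟩⟩ | ⟨-, hc⟩
  · exact Or.inl ⟨n, F, i, j, hn, hF, ⟨e.symm.trans f⟩⟩
  · exact Or.inr (Or.inl ⟨m, F, i, j, hn, hF, ⟨e.symm.trans f⟩⟩)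
  · exact Or.inr (Or.inr (Or.inl ⟨n, F, i, j, hn, hF, ⟨e.symm.trans f⟩⟩))
  · exact Or.inr (Or.inr (Or.inr (Or.inl ⟨F, i, j, hq, hF, ⟨e.symm.trans f⟩⟩)))
  · exact Or.inr (Or.inr (Or.inr (Or.inr ⟨hB, (Nat.card_congr e.toEquiv).symm.trans hc⟩)))

/-- The models have torus data, save the Suzuki groups, whose outer automorphism group is odd. -/
theorem torus_or_odd {B : Type u} [Group B] [Finite B] [IsSimpleGroup B] (hB : FourUnique B)
    (hna : ¬ IsMulCommutative B) (h : Concl B) :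
    (∀ P : Sylow 2 B, TorusData (P : Subgroup B)) ∨ Odd (Nat.card (Cfsg.Out B)) := by
  classical
  haveI : Fact (Nat.Prime 2) := ⟨Nat.prime_two⟩
  rcases h with ⟨n, F, i, j, hn, hF, ⟨e⟩⟩ | ⟨m, F, i, j, hm, hF, ⟨e⟩⟩ | ⟨n, F, i, j, hn, hF, ⟨e⟩⟩ |
    ⟨F, i, j, hq, -, ⟨e⟩⟩ | ⟨-, hc⟩
  · obtain ⟨p, hp⟩ := CharP.exists F
    haveI : Fact p.Prime := ⟨CharP.char_is_prime F p⟩
    obtain rfl : p = 2 := Dickson.p_eq_two p (by rw [hF]; exact Nat.even_pow.2 ⟨even_two, by omega⟩)
    obtain ⟨P₀, hd⟩ := torus_sl (F := F) (hF ▸ (Nat.pow_le_pow_right two_pos hn : 2 ^ 2 ≤ 2 ^ n))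
    refine Or.inl fun P => ?_
    obtain ⟨ψ, hψ⟩ := exists_iso_sylow ((GW.SLTwoEquivPSL (F := F)).trans e.symm) P₀ P
    exact hψ ▸ hd.map ψ
  · right
    rw [show Nat.card (Cfsg.Out B) = 2 * m + 1 from ?_]
    · exact odd_two_mul_add_one m
    rw [← S2126.result hm hF]
    refine Nat.card_congr (QuotientGroup.congr _ _ (MulAut.congr e) ?_).toEquiv
    ext x
    constructor
    · rintro ⟨_, ⟨g, rfl⟩, rfl⟩
      exact ⟨e g, MulEquiv.ext fun y => by simp⟩
    · rintro ⟨g, rfl⟩
      refine ⟨MulAut.conj (e.symm g), ⟨_, rfl⟩, MulEquiv.ext fun y => ?_⟩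
      simp
  · have hF' : Fintype.card F = (2 ^ n) ^ 2 := by
      rw [hF, ← pow_mul, mul_comm, pow_mul]
      norm_num
    obtain ⟨P₀, hd⟩ := torus_psu (q := 2 ^ n) hF' (Nat.even_pow.2 ⟨even_two, by omega⟩)
      (Nat.pow_le_pow_right two_pos hn : 2 ^ 2 ≤ 2 ^ n)
    refine Or.inl fun P => ?_
    obtain ⟨ψ, hψ⟩ := exists_iso_sylow e.symm P₀ P
    exact hψ ▸ hd.map ψ
  · refine Or.inl fun P => torus_small hB hna P (Or.inl ?_)
    have hodd : Odd (Fintype.card F) := Nat.odd_iff.2 (by omega)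
    have h2 := Lie.TwoPronormalPSL.card_psl_two hodd
    rw [← Nat.card_congr e.toEquiv] at h2
    obtain ⟨k, hk⟩ : ∃ k, Fintype.card F = 8 * k + 3 ∨ Fintype.card F = 8 * k + 5 :=
      ⟨Fintype.card F / 8, by omega⟩
    rcases hk with hk | hk
    · refine sylow_card (k := 2) (m := Fintype.card F * ((4 * k + 1) * (2 * k + 1))) ?_
        (hodd.mul (Odd.mul ⟨2 * k, by ring⟩ (odd_two_mul_add_one k))) P
      rw [hk] at h2 ⊢
      rw [show 8 * k + 3 - 1 = 8 * k + 2 by omega] at h2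
      linarith
    · refine sylow_card (k := 2) (m := Fintype.card F * ((2 * k + 1) * (4 * k + 3))) ?_
        (hodd.mul ((odd_two_mul_add_one k).mul ⟨2 * k + 1, by ring⟩)) P
      rw [hk] at h2 ⊢
      rw [show 8 * k + 5 - 1 = 8 * k + 4 by omega] at h2
      linarith
  · exact Or.inl fun P => torus_small hB hna P (Or.inr
      (sylow_card (k := 3) (m := 21945) (hc.trans (by norm_num)) (by decide) P))

/-- The socle has odd index. -/
theorem odd_index {G : Type u} [Group G] [Finite G] (hG : CycInter G) (N : Subgroup G) [N.Normal]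
    [IsSimpleGroup N] (hns : ¬ Group.IsSolvable N) (hC : centralizer (N : Set G) = ⊥) (hc : Concl N) :
    Odd N.index := by
  classical
  haveI : Fact (Nat.Prime 2) := ⟨Nat.prime_two⟩
  have hna : ¬ IsMulCommutative N := fun h => hns (IsSimpleGroup.comm_iff_isSolvable.1 h.is_comm.comm)
  have hNc : CycInter N := cycInter_subgroup hG N
  have hsol : (∀ P : Sylow 2 N, TorusData (P : Subgroup N)) ∨ Odd (Nat.card (Cfsg.Out N)) :=
    torus_or_odd (fourUnique hNc) hna hc
  rcases hsol with hT | hO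
  swap
  · let φ : G →* Cfsg.Out N := (QuotientGroup.mk' (Cfsg.Inn N)).comp MulAut.conjNormal
    have hker : φ.ker = N := by
      ext x
      rw [MonoidHom.mem_ker, MonoidHom.comp_apply, QuotientGroup.mk'_apply, QuotientGroup.eq_one_iff]
      constructor
      · rintro ⟨n, hn⟩
        have h1 : (n : G)⁻¹ * x ∈ centralizer (N : Set G) := by
          refine mem_centralizer_iff.2 fun y hy => ?_
          have e := congrArg Subtype.val (DFunLike.congr_fun hn ⟨y, hy⟩)
          rw [MulAut.conjNormal_apply] at e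
          have e' : (n : G) * y * (n : G)⁻¹ = x * y * x⁻¹ := by simpa using e
          calc y * ((n : G)⁻¹ * x) = (n : G)⁻¹ * ((n : G) * y * (n : G)⁻¹) * x := by group
            _ = (n : G)⁻¹ * (x * y * x⁻¹) * x := by rw [e']
            _ = (n : G)⁻¹ * x * y := by group
        rw [hC, mem_bot, inv_mul_eq_one] at h1
        exact h1 ▸ n.2
      · intro hx
        exact ⟨⟨x, hx⟩, MulEquiv.ext fun y => Subtype.ext (by simp [MulAut.conjNormal_apply])⟩
    rw [← hker, Subgroup.index_ker]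
    exact hO.of_dvd_nat (Subgroup.card_subgroup_dvd_card _)
  by_contra hodd
  rw [Nat.not_odd_iff_even, even_iff_two_dvd, index_eq_card] at hodd
  obtain ⟨t, ht⟩ := exists_prime_orderOf_dvd_card' 2 hodd
  set X := (zpowers t).comap (QuotientGroup.mk' N) with hX
  have hNX : N ≤ X := fun n hn => by
    rw [hX, mem_comap, QuotientGroup.mk'_apply, (QuotientGroup.eq_one_iff n).2 hn]
    exact one_mem _
  let e : ↥(N.subgroupOf X) ≃* ↥N := subgroupOfEquivOfLe hNX
  haveI : IsSimpleGroup ↥(N.subgroupOf X) := e.isSimpleGroup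
  have hidx : (N.subgroupOf X).index = 2 := by
    have h1 : (zpowers t).index * 2 = N.index := by
      rw [← ht, ← Nat.card_zpowers, index_eq_card N, mul_comm]
      exact card_mul_index _
    have h2 : N.relIndex X * X.index = N.index := relIndex_mul_index hNX
    rw [hX, index_comap_of_surjective _ (QuotientGroup.mk'_surjective N), ← hX, ← h1, mul_comm] at h2
    exact Nat.eq_of_mul_eq_mul_left (Nat.pos_of_ne_zero index_ne_zero_of_finite) h2
  have hC' : centralizer ((N.subgroupOf X : Subgroup X) : Set X) = ⊥ := by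
    rw [eq_bot_iff]
    intro x hx
    have h1 : (x : G) ∈ centralizer (N : Set G) := mem_centralizer_iff.2 fun y hy =>
      congrArg Subtype.val (mem_centralizer_iff.1 hx ⟨y, hNX hy⟩ hy)
    rw [hC, mem_bot] at h1
    exact mem_bot.2 (Subtype.ext h1)
  refine false_of_torus (cycInter_subgroup hG X) (N.subgroupOf X) hidx hC' inferInstance
    (fun h => hns (Group.isSolvable_of_surjective (f := e.toMonoidHom) e.surjective)) fun P' => ?_
  obtain ⟨ψ, hψ⟩ := exists_iso_sylow e.symm (default : Sylow 2 N) P'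
  exact hψ ▸ (hT default).map ψ

/-- A non-solvable group with cyclic Sylow 2-intersections, given G1. -/
theorem s3308_of (hG1 : G1.{u}) {G : Type u} [Group G] [Finite G] (hns : ¬ Group.IsSolvable G)
    (hC : ∀ S T : Sylow 2 G, S ≠ T → IsCyclic ↥((S : Subgroup G) ⊓ (T : Subgroup G)))
    (R : Subgroup G) [R.Normal] (hR : Group.IsSolvable ↥R)
    (hRmax : ∀ N : Subgroup G, N.Normal → Group.IsSolvable ↥N → N ≤ R) :
    ∃ (G₁ : Subgroup G) (_ : G₁.Normal) (_ : (R.subgroupOf G₁).Normal), Odd G₁.index ∧ R ≤ G₁ ∧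
      IsSimpleGroup (↥G₁ ⧸ R.subgroupOf G₁) ∧ ¬ IsMulCommutative (↥G₁ ⧸ R.subgroupOf G₁) ∧
      Concl (↥G₁ ⧸ R.subgroupOf G₁) := by
  have hq : CycInter (G ⧸ R) := cycInter_quotient hC R
  have hnsq : ¬ Group.IsSolvable (G ⧸ R) := fun h =>
    hns ((Group.isSolvable_iff_subgroup_quotient R).2 ⟨hR, h⟩)
  have hπ := QuotientGroup.mk'_surjective R
  have hrad : ∀ M : Subgroup (G ⧸ R), M.Normal → Group.IsSolvable M → M = ⊥ := by
    intro M hM hMs
    have hle : M.comap (QuotientGroup.mk' R) ≤ R :=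
      hRmax _ (hM.comap _) (MinNonCA.isSolvable_comap R hR hMs)
    rw [eq_bot_iff]
    intro x hx
    obtain ⟨y, rfl⟩ := hπ x
    exact mem_bot.2 ((QuotientGroup.eq_one_iff y).2 (hle hx))
  obtain ⟨N, hNn, hNs, hNns, hNC⟩ := exists_socle hq hnsq hrad
  haveI := hNn
  haveI := hNs
  have hna : ¬ IsMulCommutative N := fun h => hNns (IsSimpleGroup.comm_iff_isSolvable.1 h.is_comm.comm)
  have hfu : FourUnique N := fourUnique (cycInter_subgroup hq N)
  have hc : Concl N := classify hfu hna (hG1 N hna hfu)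
  set G₁ := N.comap (QuotientGroup.mk' R) with hG₁
  have hker : ((QuotientGroup.mk' R).subgroupComap N).ker = R.subgroupOf G₁ := by
    ext x
    rw [MonoidHom.mem_ker, mem_subgroupOf]
    exact ⟨fun h => (QuotientGroup.eq_one_iff _).1 (congrArg Subtype.val h),
      fun h => Subtype.ext ((QuotientGroup.eq_one_iff _).2 h)⟩
  let e : ↥G₁ ⧸ R.subgroupOf G₁ ≃* ↥N := (QuotientGroup.quotientMulEquivOfEq hker.symm).trans
    (QuotientGroup.quotientKerEquivOfSurjective _
      (MonoidHom.subgroupComap_surjective_of_surjective _ N hπ))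
  haveI hs : IsSimpleGroup (↥G₁ ⧸ R.subgroupOf G₁) := e.isSimpleGroup
  refine ⟨G₁, inferInstance, inferInstance, ?_, ?_, hs, fun h => hna ⟨⟨fun a b => e.symm.injective ?_⟩⟩,
    concl_congr hc e.symm hs⟩
  · rw [hG₁, index_comap_of_surjective _ hπ]
    exact odd_index hq N hNns hNC hc
  · intro x hx
    rw [hG₁, mem_comap, QuotientGroup.mk'_apply, (QuotientGroup.eq_one_iff x).2 hx]
    exact one_mem _
  · rw [map_mul, map_mul]
    exact h.is_comm.comm _ _

end Cfsg.Agent.Invol.CentRank.Cyc
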