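import Cfsg.Agent.Lib.Invol.CentRank.Cyclic.Index
import Cfsg.Agent.Lib.Invol.CentRank.Fusion
import Cfsg.Agent.Lib.Invol.CentRank.Models

/-!
# Torus data of the models

Small elementary Sylow subgroups, `SL(2, q)` and `PSU(3, q)` for even `q`.
-/

set_option autoImplicit false
set_option linter.style.haveILetI false
set_option linter.unusedSectionVars false

open Subgroup

namespace Cfsg.Agent.Invol.CentRank.Cyc

universe u

section Small

variable {B : Type u} [Group B] [Finite B] [IsSimpleGroup B]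

theorem sylow_small (hB : FourUnique B) (hna : ¬ IsMulCommutative B) (P : Sylow 2 B)
    (hc : Nat.card (P : Subgroup B) = 4 ∨ Nat.card (P : Subgroup B) = 8) : zg P = (P : Subgroup B) := by
  haveI : Fact (Nat.Prime 2) := ⟨Nat.prime_two⟩
  have hne : (P : Subgroup B) ≠ ⊥ := fun e => by rw [e, card_bot] at hc; omega
  obtain ⟨z, hz, hz1⟩ := exists_invol_center P hne
  obtain ⟨n, hn, hnz⟩ := exists_moving hB hna hz hz1
  have hw : n * z * n⁻¹ ∈ zg P :=
    (stronglyClosed_zg hB P).2 z hz n ((mem_normalizer_iff.1 hn z).1 (zg_le P hz))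
  have hZ4 : 4 ≤ Nat.card (zg P) := by
    have h3 : 3 ≤ Nat.card (zg P) := by
      have hinj : Function.Injective (![1, ⟨z, hz⟩, ⟨_, hw⟩] : Fin 3 → zg P) := by
        have hw1 : n * z * n⁻¹ ≠ 1 := fun e => hz1 (conj_eq_one_iff.1 e)
        intro i j e
        have e' := congrArg Subtype.val e
        fin_cases i <;> fin_cases j <;> first
          | rfl
          | exact absurd e' hz1
          | exact absurd e'.symm hz1
          | exact absurd e' hw1
          | exact absurd e'.symm hw1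
          | exact absurd e' hnz
          | exact absurd e'.symm hnz
      simpa using Nat.card_le_card_of_injective _ hinj
    obtain ⟨k, hk⟩ := IsPGroup.iff_card.1 (P.isPGroup'.to_le (zg_le P))
    rw [hk] at h3 ⊢
    rcases k with _ | _ | k
    · norm_num at h3
    · norm_num at h3
    · exact le_of_eq_of_le (by norm_num) (Nat.pow_le_pow_right two_pos (show 2 ≤ k + 1 + 1 by omega))
  by_contra hne'
  have hidx : ((zg P).subgroupOf (P : Subgroup B)).index = 2 := by
    have h1 := Subgroup.card_mul_index ((zg P).subgroupOf (P : Subgroup B))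
    rw [Nat.card_congr (subgroupOfEquivOfLe (zg_le P)).toEquiv] at h1
    have h2 : ((zg P).subgroupOf (P : Subgroup B)).index ≠ 1 := fun e =>
      hne' (le_antisymm (zg_le P) (subgroupOf_eq_top.1 (index_eq_one.1 e)))
    have h0 : ((zg P).subgroupOf (P : Subgroup B)).index ≠ 0 := index_ne_zero_of_finite
    have : 4 * ((zg P).subgroupOf (P : Subgroup B)).index ≤
        Nat.card (zg P) * ((zg P).subgroupOf (P : Subgroup B)).index := Nat.mul_le_mul_right _ hZ4
    omega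
  obtain ⟨x, hx, hxz⟩ : ∃ x ∈ (P : Subgroup B), x ∉ zg P := by
    by_contra hcon
    push Not at hcon
    exact hne' (le_antisymm (zg_le P) hcon)
  have hcase : ∀ y ∈ (P : Subgroup B), y ∈ zg P ∨ ∃ w ∈ zg P, y = x * w := fun y hy => by
    by_cases hyz : y ∈ zg P
    · exact Or.inl hyz
    refine Or.inr ⟨x⁻¹ * y, ?_, by group⟩
    exact ((Subgroup.mul_mem_iff_of_index_two hidx).2
      (iff_of_false (show ¬ (⟨x, hx⟩ : (P : Subgroup B))⁻¹ ∈ (zg P).subgroupOf (P : Subgroup B) from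
        fun e => hxz (by simpa [mem_subgroupOf] using e : x ∈ zg P))
        (show ¬ (⟨y, hy⟩ : (P : Subgroup B)) ∈ (zg P).subgroupOf (P : Subgroup B) from hyz)) :
      (⟨x, hx⟩ : (P : Subgroup B))⁻¹ * ⟨y, hy⟩ ∈ _)
  have hxx : x * x ∈ zg P := by
    rcases hcase _ (mul_mem hx hx) with e | ⟨w, hw', e⟩
    · exact e
    · exact absurd (mul_left_cancel e ▸ hw') hxz
  have hsq : ∀ y ∈ (P : Subgroup B), y * y = 1 ∨ y * y = x * x := fun y hy => by
    rcases hcase y hy with e | ⟨w, hw', rfl⟩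
    · exact Or.inl (mem_zg.1 e).2.1
    · refine Or.inr ?_
      calc x * w * (x * w) = x * (w * x) * w := by group
        _ = x * (x * w) * w := by rw [(zg_commute hw' hx).symm]
        _ = x * x * (w * w) := by group
        _ = x * x := by rw [(mem_zg.1 hw').2.1, mul_one]
  by_cases hu : x * x = 1
  · refine hxz (mem_zg.2 ⟨hx, hu, fun s hs => ?_⟩)
    rcases hcase s hs with e | ⟨w, hw', rfl⟩
    · exact (zg_commute e hx).symm
    · rw [mul_assoc, ← zg_commute hw' hx]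
  · obtain ⟨m, hm, hmu⟩ := exists_moving hB hna hxx hu
    rcases hsq _ ((mem_normalizer_iff.1 hm x).1 hx) with e | e
    · refine hu ?_
      have e' : m * (x * x) * m⁻¹ = 1 :=
        (show m * (x * x) * m⁻¹ = m * x * m⁻¹ * (m * x * m⁻¹) by group).trans e
      exact conj_eq_one_iff.1 e'
    · exact hmu ((show m * (x * x) * m⁻¹ = m * x * m⁻¹ * (m * x * m⁻¹) by group).trans e)

/-- Torus data when the Sylow subgroup has order four or eight. -/
theorem torus_small (hB : FourUnique B) (hna : ¬ IsMulCommutative B) (P : Sylow 2 B)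
    (hc : Nat.card (P : Subgroup B) = 4 ∨ Nat.card (P : Subgroup B) = 8) : TorusData (P : Subgroup B) := by
  classical
  haveI : Fact (Nat.Prime 2) := ⟨Nat.prime_two⟩
  have hZ := sylow_small hB hna P hc
  set N := normalizer ((P : Subgroup B) : Set B) with hN
  letI : MulAction ↥N B := MulAction.compHom B ((MulAut.conj : B →* MulAut B).comp N.subtype)
  have horb : ∀ a ∈ (P : Subgroup B), a ≠ 1 → MulAction.orbit ↥N a ⊆ {x | x ∈ (P : Subgroup B) ∧ x ≠ 1} := by
    rintro a ha ha1 _ ⟨m, rfl⟩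
    exact ⟨(mem_normalizer_iff.1 m.2 a).1 ha, fun e => ha1 (conj_eq_one_iff.1 e)⟩
  have hge : ∀ a ∈ (P : Subgroup B), a ≠ 1 → 3 ≤ (MulAction.orbit ↥N a).ncard := by
    intro a ha ha1
    obtain ⟨m, hm, hma⟩ := exists_moving hB hna (hZ.symm ▸ ha : a ∈ zg P) ha1
    have h2 : 2 ≤ (MulAction.orbit ↥N a).ncard :=
      (Set.one_lt_ncard (Set.toFinite _)).2 ⟨a, MulAction.mem_orbit_self a, _, ⟨⟨m, hm⟩, rfl⟩, fun e => hma e.symm⟩
    have hle : (P : Subgroup B).subgroupOf N ≤ MulAction.stabilizer ↥N a := fun m hm => by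
      show (m : B) * a * (m : B)⁻¹ = a
      rw [zg_commute (hZ.symm ▸ ha : a ∈ zg P) (show (m : B) ∈ (P : Subgroup B) from hm), mul_inv_cancel_right]
    have hd := (index_dvd_of_le hle).trans (relIndex_dvd_index_of_le (le_normalizer : (P : Subgroup B) ≤ N))
    rw [MulAction.index_stabilizer] at hd
    rcases Nat.lt_or_ge 2 (MulAction.orbit ↥N a).ncard with e | e
    · exact e
    · exact absurd ((dvd_of_eq (le_antisymm h2 e)).trans hd) P.not_dvd_index
  have hodd : ∀ a ∈ (P : Subgroup B), Odd (MulAction.orbit ↥N a).ncard := by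
    intro a ha
    have hle : (P : Subgroup B).subgroupOf N ≤ MulAction.stabilizer ↥N a := fun m hm => by
      show (m : B) * a * (m : B)⁻¹ = a
      rw [zg_commute (hZ.symm ▸ ha : a ∈ zg P) (show (m : B) ∈ (P : Subgroup B) from hm), mul_inv_cancel_right]
    have hd := (index_dvd_of_le hle).trans (relIndex_dvd_index_of_le (le_normalizer : (P : Subgroup B) ≤ N))
    rw [MulAction.index_stabilizer] at hd
    exact Nat.not_even_iff_odd.1 fun he => P.not_dvd_index ((even_iff_two_dvd.1 he).trans hd)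
  set Ω : Set B := {x | x ∈ (P : Subgroup B) ∧ x ≠ 1} with hΩ
  have hΩc : Ω.ncard + 1 = Nat.card (P : Subgroup B) := by
    have e : Ω = ((P : Subgroup B) : Set B) \ {1} := rfl
    rw [e, Set.ncard_sdiff_singleton_add_one (one_mem _) (Set.toFinite _)]
    rfl
  obtain ⟨a, ha, ha1⟩ : ∃ a ∈ (P : Subgroup B), a ≠ 1 := by
    rcases Set.nonempty_iff_ne_empty.2 (fun e => by rw [e, Set.ncard_empty] at hΩc; omega : Ω ≠ ∅) with ⟨a, ha⟩
    exact ⟨a, ha.1, ha.2⟩
  -- one orbit
  have hfull : MulAction.orbit ↥N a = Ω := by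
    have hs := hge a ha ha1
    have hs2 := hodd a ha
    by_contra hne
    set R := Ω \ MulAction.orbit ↥N a with hR
    have hRc : R.ncard + (MulAction.orbit ↥N a).ncard = Ω.ncard :=
      Set.ncard_sdiff_add_ncard_of_subset (horb a ha ha1) (Set.toFinite _)
    obtain ⟨b, hb⟩ : R.Nonempty := by
      rw [Set.sdiff_nonempty]
      exact fun e => hne (Set.Subset.antisymm (horb a ha ha1) e)
    have hbR : MulAction.orbit ↥N b ⊆ R := fun x hx => ⟨horb b hb.1.1 hb.1.2 hx, fun e => hb.2 (by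
      rw [← MulAction.orbit_eq_iff.2 e, MulAction.orbit_eq_iff.2 hx]
      exact MulAction.mem_orbit_self b)⟩
    have hb3 := hge b hb.1.1 hb.1.2
    have hb2 := hodd b hb.1.1
    have hbc := Set.ncard_le_ncard hbR (Set.toFinite _)
    set R' := R \ MulAction.orbit ↥N b with hR'
    have hRc' : R'.ncard + (MulAction.orbit ↥N b).ncard = R.ncard :=
      Set.ncard_sdiff_add_ncard_of_subset hbR (Set.toFinite _)
    by_cases hR'e : R'.Nonempty
    · obtain ⟨c, hc'⟩ := hR'e
      have hcR : MulAction.orbit ↥N c ⊆ R' := fun x hx =>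
        ⟨⟨horb c hc'.1.1.1 hc'.1.1.2 hx, fun e => hc'.1.2 (by
          rw [← MulAction.orbit_eq_iff.2 e, MulAction.orbit_eq_iff.2 hx]
          exact MulAction.mem_orbit_self c)⟩, fun e => hc'.2 (by
          rw [← MulAction.orbit_eq_iff.2 e, MulAction.orbit_eq_iff.2 hx]
          exact MulAction.mem_orbit_self c)⟩
      have hc3 := hge c hc'.1.1.1 hc'.1.1.2
      have hcc := Set.ncard_le_ncard hcR (Set.toFinite _)
      omega
    · rw [Set.not_nonempty_iff_eq_empty.1 hR'e, Set.ncard_empty] at hRc'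
      obtain ⟨i, hi⟩ := hs2
      obtain ⟨j, hj⟩ := hb2
      omega
  -- an element of prime power order cycling `Ω`
  set p := Ω.ncard with hp
  have hp' : p.Prime := by
    rcases hc with e | e
    · rw [show p = 3 by omega]; norm_num
    · rw [show p = 7 by omega]; norm_num
  haveI : Fact p.Prime := ⟨hp'⟩
  obtain ⟨Q⟩ : Nonempty (Sylow p ↥N) := inferInstance
  obtain ⟨q, hq, hqa⟩ : ∃ q ∈ (Q : Subgroup ↥N), (q : B) * a * (q : B)⁻¹ ≠ a := by
    by_contra hcon
    push Not at hcon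
    have hd : (MulAction.stabilizer ↥N a).index ∣ (Q : Subgroup ↥N).index :=
      index_dvd_of_le fun q hq => hcon q hq
    rw [MulAction.index_stabilizer, hfull] at hd
    exact Q.not_dvd_index hd
  have hsub : MulAction.orbit (zpowers q) a ⊆ Ω := by
    rintro _ ⟨g, rfl⟩
    exact horb a ha ha1 ⟨(g : ↥N), rfl⟩
  obtain ⟨k, hk⟩ := (Q.isPGroup'.to_le (zpowers_le.2 hq)).card_orbit a
  have hk2 : 1 < Nat.card (MulAction.orbit (zpowers q) a) := by
    rw [Nat.card_coe_set_eq]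
    exact (Set.one_lt_ncard (Set.toFinite _)).2
      ⟨a, MulAction.mem_orbit_self a, _, ⟨⟨q, mem_zpowers q⟩, rfl⟩, fun e => hqa e.symm⟩
  have hqfull : MulAction.orbit (zpowers q) a = Ω := by
    refine Set.eq_of_subset_of_ncard_le hsub ?_ (Set.toFinite _)
    rw [hk] at hk2
    rw [← Nat.card_coe_set_eq (MulAction.orbit (zpowers q) a), hk]
    rcases k with _ | k
    · norm_num at hk2
    · exact (show Ω.ncard ≤ p ^ (k + 1) from Nat.le_self_pow (by omega) p)
  have hpow : ∀ b ∈ Ω, ∃ i : ℕ, (q : B) ^ i * a * ((q : B) ^ i)⁻¹ = b := by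
    intro b hb
    rw [← hqfull] at hb
    obtain ⟨⟨g, hg⟩, rfl⟩ := hb
    obtain ⟨i, rfl⟩ := mem_powers_iff_mem_zpowers.2 hg
    exact ⟨i, by simp only [← SubmonoidClass.coe_pow]; rfl⟩
  refine ⟨(P : Subgroup B), q, le_rfl, fun w hw => (mem_zg.1 (hZ.symm ▸ hw : w ∈ zg P)).2.1,
    fun w hw x hx => zg_commute (hZ.symm ▸ hw : w ∈ zg P) hx, fun x hx _ => hx,
    fun x hx => (mem_normalizer_iff.1 q.2 x).1 hx, ?_, ?_, fun U hU hU' _ hne => absurd (le_antisymm hU' hU) hne,
    0, fun w _ => by simp, fun y hy => ⟨1, one_mem _, by simpa using inv_mem hy⟩⟩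
  · intro x hx e
    by_contra hx1
    obtain ⟨i, hi⟩ := hpow x ⟨hx, hx1⟩
    refine hqa ?_
    have e1 : (q : B) * ((q : B) ^ i * a * ((q : B) ^ i)⁻¹) * (q : B)⁻¹ =
        (q : B) ^ i * ((q : B) * a * (q : B)⁻¹) * ((q : B) ^ i)⁻¹ := by group
    rw [hi, e, ← hi] at e1
    exact (mul_left_cancel (mul_right_cancel e1)).symm
  · intro x hx y hy hx1 hy1
    obtain ⟨i, hi⟩ := hpow x ⟨hx, hx1⟩
    obtain ⟨j, hj⟩ := hpow y ⟨hy, hy1⟩
    have hq1 := pow_orderOf_eq_one (q : B)
    set o := orderOf (q : B) with ho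
    refine ⟨(o * i - i) + j, ?_⟩
    have hoi : i ≤ o * i := Nat.le_mul_of_pos_left _ (orderOf_pos _)
    have e0 : (q : B) ^ (o * i - i + j) * (q : B) ^ i = (q : B) ^ j := by
      rw [← pow_add, show o * i - i + j + i = o * i + j by omega, pow_add, pow_mul, hq1, one_pow, one_mul]
    rw [← hi, ← hj, ← e0]; group

end Small

section Linear

open Matrix Cfsg.Agent.Grp.SL2

theorem torus_sl {F : Type} [Field F] [Fintype F] [CharP F 2] (h4 : 4 ≤ Fintype.card F) :
    ∃ P : Sylow 2 (Matrix.SpecialLinearGroup (Fin 2) F),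
      TorusData (P : Subgroup (Matrix.SpecialLinearGroup (Fin 2) F)) := by
  classical
  haveI : Fact (Nat.Prime 2) := ⟨Nat.prime_two⟩
  obtain ⟨W, hW⟩ : ∃ W : Subgroup (Matrix.SpecialLinearGroup (Fin 2) F), ∀ g, g ∈ W ↔ ∃ t : F, g = up t :=
    ⟨{ carrier := {g | ∃ t : F, g = up t}
       one_mem' := ⟨0, up_zero.symm⟩
       mul_mem' := by rintro _ _ ⟨s, rfl⟩ ⟨t, rfl⟩; exact ⟨s + t, up_mul s t⟩
       inv_mem' := by
        rintro _ ⟨s, rfl⟩
        exact ⟨-s, inv_eq_of_mul_eq_one_right (by rw [up_mul, add_neg_cancel, up_zero])⟩ },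
      fun _ => Iff.rfl⟩
  have hcard : Nat.card ↥W = Fintype.card F := by
    rw [← Nat.card_eq_fintype_card (α := F)]
    refine (Nat.card_eq_of_bijective (fun t : F => (⟨up t, (hW _).2 ⟨t, rfl⟩⟩ : ↥W))
      ⟨fun s t h => ?_, fun g => ?_⟩).symm
    · simpa [up] using congrFun (congrFun (congrArg Subtype.val (congrArg Subtype.val h)) 0) 1
    · obtain ⟨t, ht⟩ := (hW g).1 g.2
      exact ⟨t, Subtype.ext ht.symm⟩
  obtain ⟨n, -, hn⟩ := FiniteField.card F 2
  have hidx : ¬ 2 ∣ W.index := by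
    have h1 := W.card_mul_index
    rw [hcard, Lie.SympWreath.natCard_SL2] at h1
    rw [Nat.eq_of_mul_eq_mul_left Fintype.card_pos h1]
    have h2 : Even (Fintype.card F ^ 2) := by
      rw [hn, ← pow_mul]; exact Nat.even_pow.2 ⟨even_two, by positivity⟩
    exact fun h => (Nat.not_even_iff_odd.2 (Nat.Even.sub_odd (Nat.one_le_pow _ _ Fintype.card_pos) h2
      odd_one)) (even_iff_two_dvd.2 h)
  refine ⟨(IsPGroup.of_card (hcard.trans hn) : IsPGroup 2 W).toSylow hidx, ?_⟩
  show TorusData W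
  obtain ⟨g, hg⟩ := IsCyclic.exists_ofOrder_eq_natCard (α := Fˣ)
  rw [Nat.card_units, Nat.card_eq_fintype_card] at hg
  have hg2 : ((g : F)) ^ 2 ≠ 1 := fun e => by
    have h1 : g ^ 2 = 1 := Units.ext (by push_cast; exact e)
    have := Nat.le_of_dvd two_pos (orderOf_dvd_of_pow_eq_one h1)
    omega
  let d : Fˣ → Matrix.SpecialLinearGroup (Fin 2) F := fun r =>
    ⟨!![(r : F), 0; 0, ((r⁻¹ : Fˣ) : F)], by simp [Matrix.det_fin_two]⟩
  have hd : ∀ (r : Fˣ) (s : F), d r * up s * (d r)⁻¹ = up ((r : F) ^ 2 * s) := fun r s => by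
    rw [conj_up (g := d r) rfl]
    rfl
  have hdp : ∀ i : ℕ, d g ^ i = d (g ^ i) := by
    intro i
    induction i with
    | zero =>
      rw [pow_zero, pow_zero]
      exact Subtype.ext (by ext a b; fin_cases a <;> fin_cases b <;> simp [d])
    | succ i ih =>
      rw [pow_succ, ih]
      exact Subtype.ext (by
        rw [Matrix.SpecialLinearGroup.coe_mul]
        ext a b
        fin_cases a <;> fin_cases b <;> simp [d, Matrix.mul_apply, Fin.sum_univ_two, pow_succ, mul_comm])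
  refine ⟨W, d g, le_rfl, ?_, ?_, fun x hx _ => hx, ?_, ?_, ?_, fun U hU hU' _ hne => absurd (le_antisymm hU' hU) hne,
    0, fun w _ => by simp, fun y hy => ⟨1, one_mem _, by simpa using inv_mem hy⟩⟩
  · intro w hw
    obtain ⟨t, rfl⟩ := (hW w).1 hw
    rw [up_mul, CharTwo.add_self_eq_zero, up_zero]
  · intro w hw x hx
    obtain ⟨t, rfl⟩ := (hW w).1 hw
    obtain ⟨s, rfl⟩ := (hW x).1 hx
    exact (commute_up s t).eq
  · intro x hx
    obtain ⟨t, rfl⟩ := (hW x).1 hx
    exact (hW _).2 ⟨_, hd g t⟩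
  · intro x hx e
    obtain ⟨t, rfl⟩ := (hW x).1 hx
    rw [hd] at e
    have e' : (g : F) ^ 2 * t = t := by
      have := congrFun (congrFun (congrArg Subtype.val e) 0) 1
      simpa [up] using this
    have ht : t = 0 := by
      by_contra ht
      exact hg2 (mul_eq_right₀ ht |>.1 e')
    rw [ht, up_zero]
  · intro x hx y hy hx1 hy1
    obtain ⟨s, rfl⟩ := (hW x).1 hx
    obtain ⟨t, rfl⟩ := (hW y).1 hy
    have hs : s ≠ 0 := fun h => hx1 (by rw [h, up_zero])
    have ht : t ≠ 0 := fun h => hy1 (by rw [h, up_zero])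
    obtain ⟨r, hr⟩ := FiniteField.isSquare_of_char_two (ringChar.eq F 2) (t / s)
    have hr0 : r ≠ 0 := fun h => div_ne_zero ht hs (by rw [hr, h, mul_zero])
    have hmem : Units.mk0 r hr0 ∈ zpowers g := by
      have htop : zpowers g = ⊤ := eq_top_of_card_eq _ (by
        rw [Nat.card_zpowers, hg, Nat.card_units, Nat.card_eq_fintype_card])
      rw [htop]; exact mem_top _
    obtain ⟨i, hi⟩ := mem_powers_iff_mem_zpowers.2 hmem
    refine ⟨i, ?_⟩
    rw [hdp, hd, show g ^ i = Units.mk0 r hr0 from hi]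
    refine congrArg up ?_
    rw [Units.val_mk0, pow_two, ← hr, div_mul_cancel₀ _ hs]

end Linear

section Unitary

open Matrix Cfsg Cfsg.Agent.Classical Cfsg.Agent.Classical.PSUAut Cfsg.Agent.Fus.UnitN Cfsg.Agent.Lie.SUGen
  Cfsg.Agent.Lie.SU3Pres Cfsg.Agent.Transfer.U3Min

/-- In the field of `q²` elements no proper non-zero additive subgroup is kept by an element of order at least
`(q² - 1) / 3`. -/
theorem eq_top_of_mul_closed {F : Type} [Field F] [Fintype F] {q : ℕ} (hF : Fintype.card F = q ^ 2) (h4 : 4 ≤ q)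
    (A : AddSubgroup F) {a : F} (ha : a ∈ A) (ha0 : a ≠ 0) {c : F} (hc : c ≠ 0)
    (hord : q ^ 2 - 1 ≤ 3 * orderOf c) (hA : ∀ x ∈ A, c * x ∈ A) : A = ⊤ := by
  classical
  let M : Subring F :=
    { carrier := {x | ∀ y ∈ A, x * y ∈ A}
      one_mem' := fun y hy => by rwa [one_mul]
      mul_mem' := fun {x z} hx hz y hy => by rw [mul_assoc]; exact hx _ (hz y hy)
      zero_mem' := fun y _ => by rw [zero_mul]; exact A.zero_mem
      add_mem' := fun {x z} hx hz y hy => by rw [add_mul]; exact A.add_mem (hx y hy) (hz y hy)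
      neg_mem' := fun {x} hx y hy => by rw [neg_mul]; exact A.neg_mem (hx y hy) }
  letI : Field M := (Finite.isField_of_domain M).toField
  have hpow : Nat.card F = Nat.card M ^ Module.finrank M F := Module.natCard_eq_pow_finrank
  have hcM : ∀ i : ℕ, c ^ i ∈ M := fun i => pow_mem (show c ∈ M from hA) i
  have hle : orderOf c ≤ Nat.card M := by
    rw [← Nat.card_fin (orderOf c)]
    refine Nat.card_le_card_of_injective (fun i : Fin (orderOf c) => (⟨c ^ (i : ℕ), hcM _⟩ : M)) fun i j e => ?_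
    exact Fin.ext (pow_injOn_Iio_orderOf i.2 j.2 (congrArg Subtype.val e))
  rw [Nat.card_eq_fintype_card (α := F), hF] at hpow
  have hone : Module.finrank M F = 1 := by
    by_contra hne
    have h1 : 1 ≤ Module.finrank M F := Module.finrank_pos
    have h2 : Nat.card M ^ 2 ≤ Nat.card M ^ Module.finrank M F :=
      Nat.pow_le_pow_right Nat.card_pos (by omega)
    rw [← hpow] at h2
    have h3 : Nat.card M ≤ q := (Nat.pow_le_pow_iff_left two_ne_zero).1 h2
    have h5 : 4 * q ≤ q ^ 2 := by rw [pow_two]; exact Nat.mul_le_mul_right q h4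
    omega
  rw [hone, pow_one] at hpow
  have hM : ∀ x : F, x ∈ M := fun x => by
    have e : (M : Set F) = Set.univ := Set.eq_of_subset_of_ncard_le (Set.subset_univ _) (by
      rw [Set.ncard_univ, Nat.card_eq_fintype_card, hF, hpow]; rfl) (Set.toFinite _)
    exact e.ge (Set.mem_univ x)
  refine eq_top_iff.2 fun x _ => ?_
  have := hM (x / a) a ha
  rwa [div_mul_cancel₀ _ ha0] at this

theorem torus_psu {F : Type} [Field F] [Fintype F] {q : ℕ} (hF : Fintype.card F = q ^ 2) (heven : Even q)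
    (h4 : 4 ≤ q) : ∃ P : Sylow 2 (PSU 3 F q), TorusData (P : Subgroup (PSU 3 F q)) := by
  classical
  haveI : Fact (Nat.Prime 2) := ⟨Nat.prime_two⟩
  obtain ⟨p, hc⟩ := CharP.exists F
  haveI : Fact p.Prime := ⟨CharP.char_is_prime F p⟩
  obtain rfl : p = 2 := Dickson.p_eq_two p (by rw [hF]; exact heven.pow_of_ne_zero two_ne_zero)
  have h2F : (2 : F) = 0 := CharTwo.two_eq_zero
  obtain ⟨e, n, f, B⟩ := exists_frame hF
  obtain ⟨k, -, hk⟩ := FiniteField.card F 2
  obtain ⟨j, -, hj⟩ := (Nat.dvd_prime_pow Nat.prime_two).1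
    (show q ∣ 2 ^ (k : ℕ) from hk ▸ hF ▸ dvd_pow_self q two_ne_zero)
  obtain ⟨π, hπdef⟩ : ∃ π : SU 3 F q →* PSU 3 F q, π = suToPSU 3 F q := ⟨_, rfl⟩
  have hπs : Function.Surjective π := hπdef ▸ pi_surjective
  have hUker : ∀ u ∈ Uni hF B, π u = 1 → u = 1 := by
    intro u hu h1
    obtain ⟨l, hl⟩ := (pi_eq_one_iff hF).1 (hπdef ▸ h1)
    have h2 : suVal u *ᵥ e = l • e := by rw [hl, Matrix.smul_mulVec, Matrix.one_mulVec]
    rw [(mem_Uni_iff hF B).1 hu] at h2
    have hl1 : l = 1 := (smul_left_injective F B.P.ne_zero (by simpa using h2)).symm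
    refine suVal_ext ?_
    rw [hl, hl1, one_smul, suVal_one']
  have hU : Nat.card (Uni hF B) = q ^ 3 := by
    have h := card_inf_Uni hF B ⊤
    rw [top_inf_eq] at h
    have hb := card_inf_Bor hF B ⊤
    rw [top_inf_eq, card_Bor hF B, top_inf_eq] at hb
    have ht : tSet B ⊤ = ⊤ := eq_top_iff.2 fun l _ =>
      (mem_tSet hF B).2 ⟨Tm hF B (l : F), Subgroup.mem_top _, T_e hF B l.ne_zero⟩
    rw [ht, Subgroup.card_top, Nat.card_units, Nat.card_eq_fintype_card (α := F), hF] at hb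
    exact (Nat.eq_of_mul_eq_mul_right (Nat.sub_pos_of_lt (Nat.one_lt_pow two_ne_zero (by omega))) hb).symm
  have hUp : IsPGroup 2 ↥((Uni hF B).map π) :=
    IsPGroup.map (IsPGroup.of_card (n := j * 3) (by rw [hU, hj, ← pow_mul])) _
  have hUidx : ¬ 2 ∣ ((Uni hF B).map π).index := by
    intro h2
    have h3 := h2.trans (Subgroup.index_map_dvd (Uni hF B) hπs)
    rw [← Subgroup.relIndex_mul_index (Uni_le_Bor hF B), index_Bor hF B] at h3
    have hr : (Uni hF B).relIndex (Bor B) * q ^ 3 = (q ^ 2 - 1) * q ^ 3 := by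
      have := Subgroup.card_mul_index ((Uni hF B).subgroupOf (Bor B))
      rw [Nat.card_congr (Subgroup.subgroupOfEquivOfLe (Uni_le_Bor hF B)).toEquiv, hU, card_Bor hF B] at this
      rw [Subgroup.relIndex, mul_comm, this, mul_comm]
    rw [Nat.eq_of_mul_eq_mul_right (pow_pos (show 0 < q by omega) 3) hr] at h3
    have hq3 : Odd (q ^ 3 + 1) := Even.add_one (heven.pow_of_ne_zero (by norm_num))
    have hq2 : Odd (q ^ 2 - 1) := Nat.Even.sub_odd (Nat.one_le_pow _ _ (by omega))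
      (heven.pow_of_ne_zero (by norm_num)) odd_one
    exact (Nat.not_even_iff_odd.2 (hq2.mul hq3)) (even_iff_two_dvd.2 h3)
  refine ⟨hUp.toSylow hUidx, ?_⟩
  show TorusData ((Uni hF B).map π)
  have hinj : ∀ {α b α' b' : F}, OK hF α b → OK hF α' b' → π (Um hF B α b) = π (Um hF B α' b') →
      α = α' ∧ b = b' := by
    intro α b α' b' h1 h2 he
    have h := hUker _ (Subgroup.mul_mem _ (Subgroup.inv_mem _ ⟨α, b, h1, rfl⟩) ⟨α', b', h2, rfl⟩)
      (by rw [map_mul, map_inv, he, inv_mul_cancel])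
    exact U_inj hF B h1 h2 (inv_mul_eq_one.1 h)
  have hskew : ∀ c : F, qFrob hF c = c → OK hF 0 c := fun c hc => OK.skew hF (by
    rw [hc, CharTwo.add_self_eq_zero])
  have hskew' : ∀ c : F, OK hF 0 c → qFrob hF c = c := fun c hc => by
    have h : c + qFrob hF c = 0 := by simpa [OK] using hc
    rw [add_eq_zero_iff_eq_neg, CharTwo.neg_eq] at h
    exact h.symm
  obtain ⟨W, hW⟩ : ∃ W : Subgroup (PSU 3 F q), ∀ g, g ∈ W ↔ ∃ c, OK hF 0 c ∧ g = π (Um hF B 0 c) := by
    refine ⟨{ carrier := {g | ∃ c, OK hF 0 c ∧ g = π (Um hF B 0 c)}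
              one_mem' := ⟨0, OK.zero hF, by rw [U_zero hF B, map_one]⟩
              mul_mem' := ?_
              inv_mem' := ?_ }, fun _ => Iff.rfl⟩
    · rintro _ _ ⟨c, hc, rfl⟩ ⟨c', hc', rfl⟩
      refine ⟨c + c', ?_, ?_⟩
      · simpa using hc.mul hF hc'
      · rw [← map_mul, U_mul hF B hc hc']
        simp
    · rintro _ ⟨c, hc, rfl⟩
      refine ⟨qFrob hF c, ?_, by rw [← map_inv, U_inv hF B hc, neg_zero]⟩
      simpa using hc.inv hF
  obtain ⟨g, hg⟩ := IsCyclic.exists_ofOrder_eq_natCard (α := Fˣ)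
  rw [Nat.card_units, Nat.card_eq_fintype_card, hF] at hg
  set l : F := (g : F) with hl'
  have hl : l ≠ 0 := g.ne_zero
  have hlord : orderOf l = q ^ 2 - 1 := by rw [hl', orderOf_units, hg]
  set c0 := th hF l with hc0'
  have hc0eq : c0 = l ^ (2 * q - 1) := th_eq_pow hF B hl
  have hc0 : c0 ≠ 0 := by rw [hc0eq]; exact pow_ne_zero _ hl
  have hgcd : Nat.gcd (q ^ 2 - 1) (2 * q - 1) ∣ 3 := by
    have h1 := Nat.gcd_dvd_left (q ^ 2 - 1) (2 * q - 1)
    have h2 := Nat.gcd_dvd_right (q ^ 2 - 1) (2 * q - 1)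
    have h3 : 1 ≤ q ^ 2 := Nat.one_le_pow _ _ (by omega)
    have h4' : (4 * (q ^ 2 - 1) : ℕ) + 3 = (2 * q + 1) * (2 * q - 1) := by
      zify [h3, show 1 ≤ 2 * q by omega]
      ring
    exact (Nat.dvd_add_right (dvd_mul_of_dvd_right h1 4)).1 (h4' ▸ dvd_mul_of_dvd_right h2 _)
  have hord : q ^ 2 - 1 ≤ 3 * orderOf c0 := by
    rw [hc0eq, orderOf_pow' _ (by omega), hlord]
    calc q ^ 2 - 1 = Nat.gcd (q ^ 2 - 1) (2 * q - 1) * ((q ^ 2 - 1) / Nat.gcd (q ^ 2 - 1) (2 * q - 1)) :=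
          (Nat.mul_div_cancel' (Nat.gcd_dvd_left _ _)).symm
      _ ≤ 3 * _ := Nat.mul_le_mul_right _ (Nat.le_of_dvd (by norm_num) hgcd)
  set h : PSU 3 F q := π (Tm hF B l) with hh
  have hTpow : ∀ i : ℕ, Tm hF B l ^ i = Tm hF B (l ^ i) := by
    intro i
    induction i with
    | zero => rw [pow_zero, pow_zero, T_one hF B]
    | succ i ih => rw [pow_succ, pow_succ, ih, T_mul hF B (pow_ne_zero _ hl) hl]
  have hact : ∀ (i : ℕ) {α b : F}, OK hF α b → h ^ i * π (Um hF B α b) * (h ^ i)⁻¹ =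
      π (Um hF B (th hF (l ^ i) * α) (l ^ i * qFrob hF (l ^ i) * b)) := by
    intro i α b hb
    rw [hh, ← map_pow, hTpow, ← map_inv, ← map_mul, ← map_mul, T_conj hF B (pow_ne_zero i hl) hb]
  have hnorm : ∀ i : ℕ, l ^ i * qFrob hF (l ^ i) = l ^ (i * (q + 1)) := fun i => by
    rw [qFrob_apply, ← pow_succ', ← pow_mul]
  have hone : ∀ i : ℕ, l ^ i = 1 ↔ q ^ 2 - 1 ∣ i := fun i => by rw [← hlord, orderOf_dvd_iff_pow_eq_one]
  have hq1 : q + 1 < q ^ 2 - 1 := by
    have h5 : 4 * q ≤ q ^ 2 := by rw [pow_two]; exact Nat.mul_le_mul_right q h4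
    omega
  have hsq : q ^ 2 - 1 = (q + 1) * (q - 1) := by
    have h3 : 1 ≤ q ^ 2 := Nat.one_le_pow _ _ (by omega)
    zify [h3, show 1 ≤ q by omega]
    ring
  -- the parameters of `r`
  set c1 := th hF (l ^ (q - 1)) with hc1'
  have hc1 : c1 ≠ 1 := by
    rw [hc1', th_eq_pow hF B (pow_ne_zero _ hl), ← pow_mul, Ne, hone, hsq]
    intro hd
    rw [mul_comm (q - 1), Nat.mul_dvd_mul_iff_right (by omega)] at hd
    have h2 : q + 1 ∣ 3 := by
      have h3 : q + 1 ∣ 2 * (q + 1) := dvd_mul_left _ _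
      have h5 : 2 * q - 1 + 3 = 2 * (q + 1) := by omega
      exact (Nat.dvd_add_right hd).1 (h5 ▸ h3)
    have := Nat.le_of_dvd (by norm_num) h2
    omega
  have hWU : W ≤ (Uni hF B).map π := fun g hg => by
    obtain ⟨c, hc, rfl⟩ := (hW g).1 hg
    exact ⟨_, ⟨0, c, hc, rfl⟩, rfl⟩
  refine ⟨W, h, hWU, ?_, ?_, ?_, ?_, ?_, ?_, ?_, q - 1, ?_, ?_⟩
  · intro w hw
    obtain ⟨c, hc, rfl⟩ := (hW w).1 hw
    rw [← map_mul, U_mul hF B hc hc]
    simp [CharTwo.add_self_eq_zero, U_zero hF B]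
  · rintro w hw _ ⟨u, ⟨α, b, hb, rfl⟩, rfl⟩
    obtain ⟨c, hc, rfl⟩ := (hW w).1 hw
    rw [← map_mul, ← map_mul, U_mul hF B hb hc, U_mul hF B hc hb]
    simp [add_comm]
  · rintro _ ⟨u, ⟨α, b, hb, rfl⟩, rfl⟩ hxx
    have h := hUker _ (Subgroup.mul_mem _ ⟨α, b, hb, rfl⟩ ⟨α, b, hb, rfl⟩) (by rw [map_mul]; exact hxx)
    rw [U_mul hF B hb hb] at h
    have h' := (U_eq_one hF B (hb.mul hF hb) h).2
    have h'' : qFrob hF α * α = 0 := by linear_combination (-h') + b * h2F
    have hα : α = 0 := by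
      rcases mul_eq_zero.1 h'' with h3 | h3
      · exact (map_eq_zero _).1 h3
      · exact h3
    subst hα
    exact (hW _).2 ⟨b, hb, rfl⟩
  · rintro _ ⟨u, ⟨α, b, hb, rfl⟩, rfl⟩
    have h1 := hact 1 hb
    rw [pow_one] at h1
    rw [h1]
    exact ⟨_, ⟨_, _, hb.scale hF (pow_ne_zero 1 hl), rfl⟩, rfl⟩
  · rintro _ ⟨u, ⟨α, b, hb, rfl⟩, rfl⟩ e
    have h1 := hact 1 hb
    rw [pow_one h, pow_one l] at h1
    rw [h1] at e
    obtain ⟨e1, e2⟩ := hinj (hb.scale hF hl) hb e
    have hα : α = 0 := by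
      by_contra hα
      have h3 : c0 = 1 := mul_eq_right₀ hα |>.1 e1
      rw [h3, orderOf_one] at hord
      omega
    have hb0 : b = 0 := by
      by_contra hb0
      have h3 := mul_eq_right₀ hb0 |>.1 e2
      have h4' : l ^ (q + 1) = 1 := by
        have := hnorm 1
        rw [pow_one, one_mul, h3] at this
        exact this.symm
      have := Nat.le_of_dvd (by omega) ((hone _).1 h4')
      omega
    rw [hα, hb0, U_zero hF B, map_one]
  · intro a ha b hb ha1 hb1
    obtain ⟨c, hc, rfl⟩ := (hW a).1 ha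
    obtain ⟨c', hc', rfl⟩ := (hW b).1 hb
    have hcne : c ≠ 0 := fun h => ha1 (by rw [h, U_zero hF B, map_one])
    have hcne' : c' ≠ 0 := fun h => hb1 (by rw [h, U_zero hF B, map_one])
    have hx0 : c' / c ≠ 0 := div_ne_zero hcne' hcne
    have hxfix : (c' / c) ^ q = c' / c := by
      rw [← qFrob_apply hF, map_div₀, hskew' c hc, hskew' c' hc']
    have hmem : Units.mk0 _ hx0 ∈ zpowers g := by
      have htop : zpowers g = ⊤ := eq_top_of_card_eq _ (by
        rw [Nat.card_zpowers, hg, Nat.card_units, Nat.card_eq_fintype_card, hF])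
      rw [htop]; exact mem_top _
    obtain ⟨k, hk⟩ := mem_powers_iff_mem_zpowers.2 hmem
    have hk' : l ^ k = c' / c := by
      rw [hl', ← Units.val_pow_eq_pow_val, show g ^ k = Units.mk0 _ hx0 from hk, Units.val_mk0]
    have h1 : (c' / c) ^ (q - 1) = 1 := by
      refine (mul_eq_right₀ hx0).1 ?_
      rw [← pow_succ, show q - 1 + 1 = q by omega, hxfix]
    rw [← hk', ← pow_mul, hone, hsq, Nat.mul_dvd_mul_iff_right (by omega)] at h1
    obtain ⟨i, rfl⟩ := h1
    refine ⟨i, ?_⟩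
    rw [hact i hc, mul_zero, hnorm, mul_comm i, hk', div_mul_cancel₀ _ hcne]
  · intro U hWU' hUP hUh hne
    let A : AddSubgroup F :=
      { carrier := {α | ∃ b, OK hF α b ∧ π (Um hF B α b) ∈ U}
        zero_mem' := ⟨0, OK.zero hF, by rw [U_zero hF B, map_one]; exact one_mem U⟩
        add_mem' := by
          rintro α α' ⟨b, hb, hu⟩ ⟨b', hb', hu'⟩
          exact ⟨_, hb.mul hF hb', by rw [← U_mul hF B hb hb', map_mul]; exact mul_mem hu hu'⟩
        neg_mem' := by
          rintro α ⟨b, hb, hu⟩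
          exact ⟨_, hb.inv hF, by rw [← U_inv hF B hb, map_inv]; exact inv_mem hu⟩ }
    obtain ⟨x, hxU, hxW⟩ : ∃ x ∈ U, x ∉ W := by
      by_contra hcon
      push Not at hcon
      exact hne (le_antisymm hcon hWU')
    obtain ⟨u, ⟨α, b, hb, rfl⟩, rfl⟩ := hUP hxU
    have hα : α ≠ 0 := fun hα => hxW ((hW _).2 ⟨b, hα ▸ hb, by rw [hα]⟩)
    have hA : A = ⊤ := eq_top_of_mul_closed hF h4 A (show α ∈ A from ⟨b, hb, hxU⟩) hα hc0 hord (by
      rintro y ⟨b', hb', hu⟩
      refine ⟨_, hb'.scale hF hl, ?_⟩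
      have h1 := hact 1 hb'
      rw [pow_one h, pow_one l] at h1
      rw [← h1]
      exact hUh _ hu)
    refine le_antisymm hUP ?_
    rintro _ ⟨u, ⟨α', b', hb', rfl⟩, rfl⟩
    obtain ⟨b'', hb'', hu⟩ := (hA.ge (AddSubgroup.mem_top α') : α' ∈ A)
    have e1 : π (Um hF B α' b') = π (Um hF B α' b'') * (π (Um hF B α' b''))⁻¹ * π (Um hF B α' b') := by group
    rw [e1, mul_assoc]
    refine mul_mem hu (hWU' ((hW _).2 ?_))
    rw [← map_inv, ← map_mul, U_inv hF B hb'', U_mul hF B (hb''.inv hF) hb']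
    refine ⟨_, ?_, congrArg π (congrArg (fun z => Um hF B z _) (neg_add_cancel α'))⟩
    simpa using (hb''.inv hF).mul hF hb'
  · intro w hw
    obtain ⟨c, hc, rfl⟩ := (hW w).1 hw
    have h1 : l ^ ((q - 1) * (q + 1)) = 1 := by rw [hone, hsq, mul_comm]
    rw [hact _ hc, mul_zero, hnorm, h1, one_mul]
  · rintro _ ⟨u, ⟨α₀, b₀, hb₀, rfl⟩, rfl⟩
    obtain ⟨α, hα⟩ : ∃ α, α = α₀ / (c1 - 1) := ⟨_, rfl⟩
    obtain ⟨b, hb'⟩ := exists_trace_eq hF (a := -(α * qFrob hF α))
      (by rw [map_neg, map_mul, cj_cj hF, mul_comm])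
    have hb : OK hF α b := by unfold OK; linear_combination hb'
    refine ⟨_, ⟨_, ⟨α, b, hb, rfl⟩, rfl⟩, ?_⟩
    rw [hact _ hb, hW]
    have hsc := hb.scale hF (pow_ne_zero (q - 1) hl)
    rw [← map_inv, ← map_inv, ← map_mul, ← map_mul, U_inv hF B hb, U_inv hF B hb₀,
      U_mul hF B (hb.inv hF) hsc, U_mul hF B (hb₀.inv hF) ((hb.inv hF).mul hF hsc)]
    have hz : -α₀ + (-α + c1 * α) = 0 := by
      have := div_mul_cancel₀ α₀ (sub_ne_zero.2 hc1)
      rw [← hα] at this
      linear_combination this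
    refine ⟨_, ?_, congrArg π (congrArg (fun z => Um hF B z _) hz)⟩
    have := (hb₀.inv hF).mul hF ((hb.inv hF).mul hF hsc)
    rwa [← hc1', hz] at this

end Unitary

end Cfsg.Agent.Invol.CentRank.Cyc
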