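import Cfsg.Agent.Lib.Invol.CentRank.Cyclic.Socle
import Cfsg.Agent.Lib.Invol.ZStar

/-!
# A simple group with torus data has odd index

An involution outside the simple normal subgroup commuting with the torus centralises the Sylow subgroup, so it
is isolated, against the `Z*` theorem.
-/

set_option autoImplicit false
set_option linter.style.haveILetI false
set_option linter.unusedSectionVars false

open Subgroup

namespace Cfsg.Agent.Invol.CentRank.Cyc

universe u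

/-- What is used about a Sylow 2-subgroup `P`: its involutions form with `1` a central subgroup `W`; an element
`h` of odd order normalises `P`, fixes only `1` there, is transitive on `W` and irreducible on `P / W`; a power of
`h` fixes `W` and moves all of `P / W`. -/
def TorusData {B : Type*} [Group B] (P : Subgroup B) : Prop :=
  ∃ (W : Subgroup B) (h : B), W ≤ P ∧ (∀ w ∈ W, w * w = 1) ∧ (∀ w ∈ W, ∀ x ∈ P, x * w = w * x) ∧
    (∀ x ∈ P, x * x = 1 → x ∈ W) ∧ (∀ x ∈ P, h * x * h⁻¹ ∈ P) ∧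
    (∀ x ∈ P, h * x * h⁻¹ = x → x = 1) ∧
    (∀ a ∈ W, ∀ b ∈ W, a ≠ 1 → b ≠ 1 → ∃ i : ℕ, h ^ i * a * (h ^ i)⁻¹ = b) ∧
    (∀ U : Subgroup B, W ≤ U → U ≤ P → (∀ x ∈ U, h * x * h⁻¹ ∈ U) → U ≠ W → U = P) ∧
    ∃ m : ℕ, (∀ w ∈ W, h ^ m * w * (h ^ m)⁻¹ = w) ∧
      ∀ y ∈ P, ∃ x ∈ P, y⁻¹ * (x⁻¹ * (h ^ m * x * (h ^ m)⁻¹)) ∈ W

theorem TorusData.map {A B : Type*} [Group A] [Group B] (ψ : A ≃* B) {P : Subgroup A} (d : TorusData P) :
    TorusData (P.map ψ.toMonoidHom) := by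
  obtain ⟨W, h, hWP, hW2, hWc, hinv, hn, hfix, htr, hirr, m, hm, hsur⟩ := d
  refine ⟨W.map ψ.toMonoidHom, ψ h, map_mono hWP, ?_, ?_, ?_, ?_, ?_, ?_, ?_, m, ?_, ?_⟩
  · rintro _ ⟨w, hw, rfl⟩
    rw [← map_mul, hW2 w hw, map_one]
  · rintro _ ⟨w, hw, rfl⟩ _ ⟨x, hx, rfl⟩
    rw [← map_mul, hWc w hw x hx, map_mul]
  · rintro _ ⟨x, hx, rfl⟩ hxx
    exact ⟨x, hinv x hx (ψ.injective (by rw [map_mul, map_one]; exact hxx)), rfl⟩
  · rintro _ ⟨x, hx, rfl⟩
    exact ⟨_, hn x hx, by simp⟩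
  · rintro _ ⟨x, hx, rfl⟩ e
    have e' : h * x * h⁻¹ = x := ψ.injective (by rw [map_mul, map_mul, map_inv]; exact e)
    rw [hfix x hx e', map_one]
  · rintro _ ⟨a, ha, rfl⟩ _ ⟨b, hb, rfl⟩ ha1 hb1
    obtain ⟨i, e⟩ := htr a ha b hb (fun e => ha1 (by rw [e, map_one])) (fun e => hb1 (by rw [e, map_one]))
    exact ⟨i, by simpa using congrArg ψ e⟩
  · intro U hWU hUP hU hne
    have e := hirr (U.comap ψ.toMonoidHom) (fun w hw => hWU ⟨w, hw, rfl⟩) (fun x hx => by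
      obtain ⟨y, hy, e⟩ := hUP hx
      rwa [← ψ.injective (e : ψ y = ψ x)]) (fun x hx => by
        show ψ (h * x * h⁻¹) ∈ U
        rw [map_mul, map_mul, map_inv]; exact hU _ hx) (fun e => hne (by
          rw [← map_comap_eq_self_of_surjective (f := ψ.toMonoidHom) ψ.surjective U, e]))
    rw [← e, map_comap_eq_self_of_surjective (f := ψ.toMonoidHom) ψ.surjective]
  · rintro _ ⟨w, hw, rfl⟩
    simpa using congrArg ψ (hm w hw)
  · rintro _ ⟨y, hy, rfl⟩
    obtain ⟨x, hx, e⟩ := hsur y hy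
    exact ⟨_, ⟨x, hx, rfl⟩, _, e, by simp⟩

variable {X : Type u} [Group X] [Finite X]

/-- With torus data `N` has no extension of index two with trivial centraliser, if the normaliser in `N` of
`S ⊓ N` normalises `S`. -/
theorem false_of_torus_at (N : Subgroup X) [N.Normal] (hidx : N.index = 2)
    (hC : centralizer (N : Set X) = ⊥) (hs : IsSimpleGroup N) (hns : ¬ Group.IsSolvable N)
    (hT : ∀ P : Sylow 2 N, TorusData (P : Subgroup N)) (S : Sylow 2 X)
    (hN : ∀ x ∈ N, (∀ a ∈ (S : Subgroup X) ⊓ N, x * a * x⁻¹ ∈ (S : Subgroup X)) →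
      x ∈ normalizer ((S : Subgroup X) : Set X)) : False := by
  classical
  haveI : Fact (Nat.Prime 2) := ⟨Nat.prime_two⟩
  let P : Sylow 2 N := (S.isPGroup'.comap_subtype (K := N)).toSylow (Grp.sylow_inf_normal_relIndex S N)
  set P₀ : Subgroup X := (S : Subgroup X) ⊓ N with hP₀
  have hPmem : ∀ x : N, x ∈ (P : Subgroup N) ↔ (x : X) ∈ (S : Subgroup X) := fun _ => Iff.rfl
  obtain ⟨W', h', hWP, hW2', hWc', hinv', hn', hfix', htr', hirr', m, hm', hsur'⟩ := hT P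
  set W : Subgroup X := W'.map N.subtype with hW
  set h : X := (h' : X) with hh
  have hWle : W ≤ P₀ := by
    rintro _ ⟨w, hw, rfl⟩
    exact ⟨hWP hw, w.2⟩
  have hW2 : ∀ w ∈ W, w * w = 1 := by
    rintro _ ⟨w, hw, rfl⟩
    exact congrArg Subtype.val (hW2' w hw)
  have hWc : ∀ w ∈ W, ∀ x ∈ P₀, x * w = w * x := by
    rintro _ ⟨w, hw, rfl⟩ x hx
    exact congrArg Subtype.val (hWc' w hw ⟨x, hx.2⟩ hx.1)
  have hinv : ∀ x ∈ P₀, x * x = 1 → x ∈ W := fun x hx hxx =>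
    ⟨⟨x, hx.2⟩, hinv' ⟨x, hx.2⟩ hx.1 (Subtype.ext hxx), rfl⟩
  have hmk : ∀ {x : X}, x ∈ (S : Subgroup X) → x ∈ N → x ∈ P₀ := fun a b => ⟨a, b⟩
  have hn : ∀ x ∈ P₀, h * x * h⁻¹ ∈ P₀ := fun x hx =>
    hmk (hn' ⟨x, hx.2⟩ hx.1) (mul_mem (mul_mem h'.2 hx.2) (inv_mem h'.2))
  have hfix : ∀ x ∈ P₀, h * x * h⁻¹ = x → x = 1 := fun x hx e =>
    congrArg Subtype.val (hfix' ⟨x, hx.2⟩ hx.1 (Subtype.ext e))
  have hP₀nc : ¬ IsCyclic P₀ := not_isCyclic_inf hns S
  have hWne : ∃ w ∈ W, w ≠ 1 := by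
    obtain ⟨x, hx⟩ : ∃ x : P₀, orderOf x = 2 := by
      refine exists_prime_orderOf_dvd_card' 2 ?_
      obtain ⟨k, hk⟩ := IsPGroup.iff_card.1 (S.isPGroup'.to_le (inf_le_left : P₀ ≤ _))
      rw [hk]
      refine dvd_pow_self 2 fun e => hP₀nc ?_
      rw [e, pow_zero] at hk
      haveI : Subsingleton P₀ := (Nat.card_eq_one_iff_unique.1 hk).1
      infer_instance
    exact ⟨x, hinv x x.2 (by
      have := pow_orderOf_eq_one x
      rw [hx, pow_two] at this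
      exact congrArg Subtype.val this), fun e => by
      rw [show x = 1 from Subtype.ext e, orderOf_one] at hx; omega⟩
  have hhS : h ∈ normalizer ((S : Subgroup X) : Set X) := hN h h'.2 fun a ha => (hn a ha).1
  -- an element of `S` outside `N` commuting with `h`
  obtain ⟨t₀, ht₀S, ht₀N⟩ : ∃ t₀ ∈ (S : Subgroup X), t₀ ∉ N := by
    by_contra hcon
    push Not at hcon
    have hd := index_dvd_of_le hcon
    rw [hidx] at hd
    exact S.not_dvd_index hd
  have hbij : Function.Surjective (fun x : P₀ => (⟨(x : X)⁻¹ * (h * x * h⁻¹),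
      mul_mem (inv_mem x.2) (hn x x.2)⟩ : P₀)) := by
    refine Finite.injective_iff_surjective.1 fun x y e => ?_
    have e' : (x : X)⁻¹ * (h * x * h⁻¹) = (y : X)⁻¹ * (h * y * h⁻¹) := congrArg Subtype.val e
    have h1 : h * ((y : X) * (x : X)⁻¹) * h⁻¹ = (y : X) * (x : X)⁻¹ := by
      calc h * ((y : X) * (x : X)⁻¹) * h⁻¹
          = (y : X) * ((y : X)⁻¹ * (h * y * h⁻¹)) * ((x : X)⁻¹ * (h * x * h⁻¹))⁻¹ * (x : X)⁻¹ := by group
        _ = (y : X) * (x : X)⁻¹ := by rw [e']; group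
    exact Subtype.ext (mul_inv_eq_one.1 (hfix _ (mul_mem y.2 (inv_mem x.2)) h1)).symm
  have hp : h * t₀ * h⁻¹ * t₀⁻¹ ∈ P₀ := by
    refine hmk (mul_mem ((mem_normalizer_iff.1 hhS t₀).1 ht₀S) (inv_mem ht₀S)) ?_
    rw [show h * t₀ * h⁻¹ * t₀⁻¹ = h * (t₀ * h⁻¹ * t₀⁻¹) by group]
    exact mul_mem h'.2 (Normal.conj_mem inferInstance _ (inv_mem h'.2) t₀)
  obtain ⟨x₀, hx₀⟩ := hbij ⟨_, inv_mem hp⟩
  obtain ⟨t, ht⟩ : ∃ t : X, t = (x₀ : X) * t₀ := ⟨_, rfl⟩
  have hht : h * t * h⁻¹ = t := by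
    have e : (x₀ : X)⁻¹ * (h * x₀ * h⁻¹) = (h * t₀ * h⁻¹ * t₀⁻¹)⁻¹ := congrArg Subtype.val hx₀
    calc h * t * h⁻¹ = (x₀ : X) * ((x₀ : X)⁻¹ * (h * x₀ * h⁻¹)) * (h * t₀ * h⁻¹ * t₀⁻¹) * t₀ := by
          rw [ht]; group
      _ = t := by rw [e, ht]; group
  have htS : t ∈ (S : Subgroup X) := ht ▸ mul_mem x₀.2.1 ht₀S
  have htN : t ∉ N := fun e => ht₀N (by
    have h1 : (x₀ : X)⁻¹ * t ∈ N := mul_mem (inv_mem x₀.2.2) e
    rwa [ht, inv_mul_cancel_left] at h1)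
  have htP : ∀ x ∈ P₀, t * x * t⁻¹ ∈ P₀ := fun x hx =>
    hmk (mul_mem (mul_mem htS hx.1) (inv_mem htS)) (Normal.conj_mem inferInstance x hx.2 t)
  have hmul_mem : ∀ {a b : X}, a ∉ N → b ∉ N → a * b ∈ N := fun ha hb =>
    ((Subgroup.mul_mem_iff_of_index_two hidx).2 (iff_of_false ha hb))
  have htt : t * t = 1 := hfix _ (hmk (mul_mem htS htS) (hmul_mem htN htN)) (by
    rw [show h * (t * t) * h⁻¹ = (h * t * h⁻¹) * (h * t * h⁻¹) by group, hht])
  have hti : t⁻¹ = t := inv_eq_of_mul_eq_one_right htt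
  have hcomm : Commute t h := (mul_inv_eq_iff_eq_mul.1 hht).symm
  -- `t` centralises `W`
  have htW : ∀ w ∈ W, t * w * t⁻¹ = w := by
    have hex : ∃ a ∈ W, a ≠ 1 ∧ t * a * t⁻¹ = a := by
      obtain ⟨a, ha, ha1⟩ := hWne
      have htaW : t * a * t⁻¹ ∈ W := hinv _ (htP a (hWle ha)) (by
        rw [show t * a * t⁻¹ * (t * a * t⁻¹) = t * (a * a) * t⁻¹ by group, hW2 a ha, mul_one, mul_inv_cancel])
      by_cases e : t * a * t⁻¹ = a
      · exact ⟨a, ha, ha1, e⟩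
      · refine ⟨a * (t * a * t⁻¹), mul_mem ha htaW, fun e1 => e ?_, ?_⟩
        · calc t * a * t⁻¹ = (a * a) * (t * a * t⁻¹) := by rw [hW2 a ha, one_mul]
            _ = a := by rw [mul_assoc, e1, mul_one]
        · calc t * (a * (t * a * t⁻¹)) * t⁻¹ = (t * a * t⁻¹) * ((t * t) * a * (t * t)⁻¹) := by group
            _ = (t * a * t⁻¹) * a := by rw [htt]; group
            _ = a * (t * a * t⁻¹) := (hWc _ htaW a (hWle ha)).symm
    obtain ⟨a, ha, ha1, e⟩ := hex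
    intro w hw
    by_cases hw1 : w = 1
    · simp [hw1]
    obtain ⟨a', ha', ea⟩ := ha
    obtain ⟨w', hw', ew⟩ := hw
    obtain ⟨i, ei⟩ := htr' a' ha' w' hw' (fun h0 => ha1 (by rw [← ea, h0]; rfl))
      (fun h0 => hw1 (by rw [← ew, h0]; rfl))
    have ei' : h ^ i * a * (h ^ i)⁻¹ = w := by
      rw [← ea, ← ew]
      exact congrArg Subtype.val ei
    rw [← ei']
    have hc := hcomm.pow_right i
    calc t * (h ^ i * a * (h ^ i)⁻¹) * t⁻¹ = (t * h ^ i) * a * (t * h ^ i)⁻¹ := by group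
      _ = h ^ i * (t * a * t⁻¹) * (h ^ i)⁻¹ := by rw [hc.eq]; group
      _ = _ := by rw [e]
  -- `x ↦ x⁻¹ x^t` on the subgroup where it lands in `W`
  let f : X → X := fun x => x⁻¹ * (t * x * t⁻¹)
  have hfmul : ∀ x y, x ∈ P₀ → y ∈ P₀ → f x ∈ W → f (x * y) = f x * f y := by
    intro x y hx hy hfx
    show (x * y)⁻¹ * (t * (x * y) * t⁻¹) = f x * (y⁻¹ * (t * y * t⁻¹))
    calc (x * y)⁻¹ * (t * (x * y) * t⁻¹) = (y⁻¹ * f x) * (t * y * t⁻¹) := by simp only [f]; group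
      _ = (f x * y⁻¹) * (t * y * t⁻¹) := by rw [hWc _ hfx _ (inv_mem hy)]
      _ = _ := by group
  have hf1 : f 1 = 1 := by simp [f]
  let U : Subgroup X :=
    { carrier := {x | x ∈ P₀ ∧ f x ∈ W}
      one_mem' := ⟨one_mem _, by rw [hf1]; exact one_mem _⟩
      mul_mem' := fun {a b} ha hb => ⟨mul_mem ha.1 hb.1, by
        rw [hfmul a b ha.1 hb.1 ha.2]; exact mul_mem ha.2 hb.2⟩
      inv_mem' := fun {a} ha => ⟨inv_mem ha.1, by
        have e := hfmul a a⁻¹ ha.1 (inv_mem ha.1) ha.2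
        rw [mul_inv_cancel, hf1] at e
        rw [← inv_eq_of_mul_eq_one_right e.symm]
        exact inv_mem ha.2⟩ }
  have hhW : ∀ w ∈ W, h * w * h⁻¹ ∈ W := fun w hw => hinv _ (hn w (hWle hw)) (by
    rw [show h * w * h⁻¹ * (h * w * h⁻¹) = h * (w * w) * h⁻¹ by group, hW2 w hw, mul_one, mul_inv_cancel])
  have hUh : ∀ x ∈ U, h * x * h⁻¹ ∈ U := fun x hx => ⟨hn x hx.1, by
    have e : f (h * x * h⁻¹) = h * f x * h⁻¹ := by
      show (h * x * h⁻¹)⁻¹ * (t * (h * x * h⁻¹) * t⁻¹) = h * (x⁻¹ * (t * x * t⁻¹)) * h⁻¹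
      calc (h * x * h⁻¹)⁻¹ * (t * (h * x * h⁻¹) * t⁻¹) = (h * x * h⁻¹)⁻¹ * ((t * h) * x * (t * h)⁻¹) := by group
        _ = _ := by rw [hcomm.eq]; group
    rw [e]; exact hhW _ hx.2⟩
  have hWU : W ≤ U := fun w hw => ⟨hWle hw, by
    show w⁻¹ * (t * w * t⁻¹) ∈ W
    rw [htW w hw, inv_mul_cancel]; exact one_mem _⟩
  have hUP : U = P₀ := by
    refine le_antisymm (fun x hx => hx.1) fun y hy => ?_
    by_cases hall : ∀ x ∈ P₀, x ∈ W
    · exact hWU (hall y hy)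
    push Not at hall
    obtain ⟨y₁, hy₁, hy₁W⟩ := hall
    have hne : ∃ u ∈ U, u ∉ W := by
      by_cases hfy : f y₁ ∈ W
      · exact ⟨y₁, ⟨hy₁, hfy⟩, hy₁W⟩
      have hfP : f y₁ ∈ P₀ := mul_mem (inv_mem hy₁) (htP y₁ hy₁)
      obtain ⟨k, hk⟩ := S.isPGroup' ⟨f y₁, hfP.1⟩
      have hk' : f y₁ ^ 2 ^ k = 1 := congrArg Subtype.val hk
      have hex : ∃ i, f y₁ ^ 2 ^ i ∈ W := ⟨k, by rw [hk']; exact one_mem W⟩
      obtain ⟨i, hi⟩ : ∃ i, Nat.find hex = i + 1 := ⟨Nat.find hex - 1, by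
        have : Nat.find hex ≠ 0 := fun e => hfy (by simpa [e] using Nat.find_spec hex)
        omega⟩
      refine ⟨f y₁ ^ 2 ^ i, ⟨pow_mem hfP _, ?_⟩, Nat.find_min hex (by omega)⟩
      have hinvf : t * f y₁ * t⁻¹ = (f y₁)⁻¹ := by
        show t * (y₁⁻¹ * (t * y₁ * t⁻¹)) * t⁻¹ = (y₁⁻¹ * (t * y₁ * t⁻¹))⁻¹
        calc t * (y₁⁻¹ * (t * y₁ * t⁻¹)) * t⁻¹ = (t * y₁⁻¹ * t⁻¹) * ((t * t) * y₁ * (t * t)⁻¹) := by group
          _ = _ := by rw [htt]; group
      show (f y₁ ^ 2 ^ i)⁻¹ * (t * f y₁ ^ 2 ^ i * t⁻¹) ∈ W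
      rw [← conj_pow, hinvf, inv_pow, ← mul_inv_rev, ← pow_add, ← two_mul, ← pow_succ', ← hi]
      exact inv_mem (Nat.find_spec hex)
    have e : (U.subgroupOf N) = (P : Subgroup N) := hirr' _ (fun w hw => hWU ⟨w, hw, rfl⟩) (fun x hx => hx.1.1)
      (fun x hx => hUh x hx) (fun e => by
        obtain ⟨u, hu, huW⟩ := hne
        exact huW ⟨⟨u, hu.1.2⟩, e.le (show (⟨u, hu.1.2⟩ : N) ∈ U.subgroupOf N from hu), rfl⟩)
    exact e.ge (show (⟨y, hy.2⟩ : N) ∈ (P : Subgroup N) from hy.1)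
  have hfW : ∀ x ∈ P₀, f x ∈ W := fun x hx => (hUP ▸ hx : x ∈ U).2
  -- `t` centralises `P₀`
  have htc : ∀ y ∈ P₀, t * y * t⁻¹ = y := by
    intro y hy
    obtain ⟨x, hx, e⟩ := hsur' ⟨y, hy.2⟩ hy.1
    have hx0 : (x : X) ∈ P₀ := ⟨hx, x.2⟩
    have hhm : ∀ i : ℕ, ∀ z ∈ P₀, h ^ i * z * (h ^ i)⁻¹ ∈ P₀ := by
      intro i
      induction i with
      | zero => intro z hz; simpa using hz
      | succ i ih =>
        intro z hz
        have e1 : h ^ (i + 1) * z * (h ^ (i + 1))⁻¹ = h * (h ^ i * z * (h ^ i)⁻¹) * h⁻¹ := by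
          rw [pow_succ']; group
        rw [e1]; exact hn _ (ih z hz)
    set r : X := h ^ m with hr
    have hrW : ∀ w ∈ W, r * w * r⁻¹ = w := by
      rintro _ ⟨w, hw, rfl⟩
      exact congrArg Subtype.val (hm' w hw)
    have hfr : f (r * x * r⁻¹) = f x := by
      have hc : Commute t r := hcomm.pow_right m
      calc f (r * x * r⁻¹) = (r * x * r⁻¹)⁻¹ * ((t * r) * x * (t * r)⁻¹) := by simp only [f]; group
        _ = r * f x * r⁻¹ := by rw [hc.eq]; simp only [f]; group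
        _ = f x := hrW _ (hfW _ hx0)
    have hd : f ((x : X)⁻¹ * (r * x * r⁻¹)) = 1 := by
      have e1 := hfmul x ((x : X)⁻¹ * (r * x * r⁻¹)) hx0 (mul_mem (inv_mem hx0) (hhm m _ hx0)) (hfW _ hx0)
      rw [mul_inv_cancel_left, hfr] at e1
      exact mul_eq_left.1 e1.symm
    have hw : y⁻¹ * ((x : X)⁻¹ * (r * x * r⁻¹)) ∈ W := ⟨_, e, rfl⟩
    have e2 := hfmul y (y⁻¹ * ((x : X)⁻¹ * (r * x * r⁻¹))) hy (hWle hw) (hfW _ hy)
    rw [mul_inv_cancel_left, hd, show f (y⁻¹ * ((x : X)⁻¹ * (r * x * r⁻¹))) = 1 from by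
      simp only [f]; rw [htW _ hw]; group, mul_one] at e2
    exact (inv_mul_eq_one.1 (show y⁻¹ * (t * y * t⁻¹) = 1 from e2.symm)).symm
  have htcen : ∀ s ∈ (S : Subgroup X), s * t = t * s := by
    intro s hs
    by_cases hsN : s ∈ N
    · exact (mul_inv_eq_iff_eq_mul.1 (htc s ⟨hs, hsN⟩)).symm
    · have e := mul_inv_eq_iff_eq_mul.1 (htc (s * t) (hmk (mul_mem hs htS) (hmul_mem hsN htN)))
      calc s * t = (s * t * t) * t := by rw [mul_assoc s t t, htt, mul_one]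
        _ = t * (s * t) * t := by rw [e]
        _ = t * s := by rw [mul_assoc, mul_assoc, htt, mul_one]
  -- the conjugates under the normaliser
  set M := N ⊓ normalizer ((S : Subgroup X) : Set X) with hM
  have hmW : ∀ g : X, g * t * g⁻¹ ∈ (S : Subgroup X) → g * t * g⁻¹ * t ∈ W := fun g hg => by
    have hgN : g * t * g⁻¹ ∉ N := fun e => htN (by simpa [mul_assoc] using Normal.conj_mem inferInstance _ e g⁻¹)
    refine hinv _ (hmk (mul_mem hg htS) (hmul_mem hgN htN)) ?_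
    calc g * t * g⁻¹ * t * (g * t * g⁻¹ * t) = g * t * g⁻¹ * (t * (g * t * g⁻¹)) * t := by group
      _ = g * t * g⁻¹ * ((g * t * g⁻¹) * t) * t := by rw [htcen _ hg]
      _ = g * (t * t) * g⁻¹ * (t * t) := by group
      _ = 1 := by rw [htt]; group
  have hMfix : ∀ n ∈ M, n * t * n⁻¹ = t := by
    letI : CommGroup W :=
      { (inferInstance : Group W) with
        mul_comm := fun a b => Subtype.ext (hWc b b.2 a (hWle a.2)) }
    have hMW : ∀ n ∈ M, ∀ w ∈ W, n * w * n⁻¹ ∈ W := fun n hn w hw => hinv _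
      ⟨(mem_normalizer_iff.1 hn.2 w).1 (hWle hw).1, Normal.conj_mem inferInstance w (hWle hw).2 n⟩
      (by rw [show n * w * n⁻¹ * (n * w * n⁻¹) = n * (w * w) * n⁻¹ by group, hW2 w hw, mul_one, mul_inv_cancel])
    letI : MulAction ↥M X := MulAction.compHom X ((MulAut.conj : X →* MulAut X).comp M.subtype)
    set Ω := MulAction.orbit ↥M t with hΩ
    have hΩW : ∀ ω : Ω, (ω : X) * t ∈ W := by
      rintro ⟨_, n, rfl⟩
      exact hmW n ((mem_normalizer_iff.1 n.2.2 t).1 htS)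
    letI : Fintype Ω := Fintype.ofFinite _
    have hodd : Odd (Fintype.card Ω) := by
      have hle : (P₀.subgroupOf M) ≤ MulAction.stabilizer ↥M t := fun n hn => by
        show (n : X) * t * (n : X)⁻¹ = t
        rw [htcen _ (show (n : X) ∈ P₀ from hn).1, mul_inv_cancel_right]
      have hd := index_dvd_of_le hle
      rw [MulAction.index_stabilizer, ← Nat.card_coe_set_eq, Nat.card_eq_fintype_card] at hd
      refine Nat.not_even_iff_odd.1 fun he => Grp.sylow_inf_normal_relIndex S N ?_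
      have hPM : P₀ ≤ M := le_inf inf_le_right ((inf_le_left).trans le_normalizer)
      have h1 : P₀.relIndex M ∣ P₀.relIndex N := Dvd.intro _ (Subgroup.relIndex_mul_relIndex P₀ M N hPM inf_le_left)
      rw [← inf_relIndex_right]
      exact ((even_iff_two_dvd.1 he).trans hd).trans h1
    let b : W := ∏ ω : Ω, ⟨(ω : X) * t, hΩW ω⟩
    have hb : ∀ (n : X) (hn : n ∈ M), n * (b : X) * n⁻¹ * (n * t * n⁻¹ * t) = b := by
      intro n hn
      let φ : W →* W :=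
        { toFun := fun w => ⟨n * w * n⁻¹, hMW n hn w w.2⟩
          map_one' := Subtype.ext (by simp)
          map_mul' := fun v w => Subtype.ext (by simp [mul_assoc]) }
      let c : W := ⟨n * t * n⁻¹ * t, hmW n ((mem_normalizer_iff.1 hn.2 t).1 htS)⟩
      have e1 : (∏ ω : Ω, φ ⟨(ω : X) * t, hΩW ω⟩ * c) = b := by
        refine Fintype.prod_equiv (MulAction.toPerm (⟨n, hn⟩ : ↥M)) _ _ fun ω => Subtype.ext ?_
        show n * ((ω : X) * t) * n⁻¹ * (n * t * n⁻¹ * t) = n * (ω : X) * n⁻¹ * t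
        calc n * ((ω : X) * t) * n⁻¹ * (n * t * n⁻¹ * t) = n * (ω : X) * (t * t) * n⁻¹ * t := by group
          _ = _ := by rw [htt]; group
      rw [Finset.prod_mul_distrib, ← map_prod, Finset.prod_const, Finset.card_univ] at e1
      have hc : c ^ Fintype.card Ω = c := by
        obtain ⟨k, hk⟩ := hodd
        rw [hk, pow_succ, pow_mul, pow_two, show c * c = 1 from Subtype.ext (hW2 _ c.2), one_pow, one_mul]
      rw [hc] at e1
      exact congrArg Subtype.val e1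
    have hb1 : (b : X) = 1 := by
      have e := hb h ⟨h'.2, hhS⟩
      rw [hht, htt, mul_one] at e
      exact hfix _ (hWle b.2) e
    intro n hn
    have e := hb n hn
    rw [hb1, mul_one, mul_inv_cancel, one_mul] at e
    rw [eq_inv_of_mul_eq_one_left e, hti]
  -- isolated
  have ht2 : orderOf t = 2 := orderOf_two_iff.2 ⟨htt, fun e => htN (e ▸ one_mem N)⟩
  have hiso : Cfsg.IsIsolatedInvolution t := by
    refine ZStar.isIsolated_of_sylow htS ht2 fun g hg => ?_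
    have hw := hmW g hg
    have hgc : ∀ s ∈ (S : Subgroup X), s * (g * t * g⁻¹) = g * t * g⁻¹ * s := by
      intro s hs
      have e : g * t * g⁻¹ = (g * t * g⁻¹ * t) * t := by rw [mul_assoc _ t t, htt, mul_one]
      have hsw : s * (g * t * g⁻¹ * t) = g * t * g⁻¹ * t * s := by
        by_cases hsN : s ∈ N
        · exact hWc _ hw s ⟨hs, hsN⟩
        · have h1 := hWc _ hw (s * t) (hmk (mul_mem hs htS) (hmul_mem hsN htN))
          have h2 : t * (g * t * g⁻¹ * t) = (g * t * g⁻¹ * t) * t := mul_inv_eq_iff_eq_mul.1 (htW _ hw)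
          calc s * (g * t * g⁻¹ * t) = (s * t * (g * t * g⁻¹ * t)) * t := by
                rw [mul_assoc s t, h2, ← mul_assoc s, mul_assoc _ t t, htt, mul_one]
            _ = (g * t * g⁻¹ * t) * (s * t) * t := by rw [h1]
            _ = g * t * g⁻¹ * t * s := by rw [mul_assoc _ (s * t), mul_assoc s t t, htt, mul_one]
      rw [e, ← mul_assoc, hsw, mul_assoc, htcen s hs, ← mul_assoc]
    obtain ⟨n, hn, he⟩ := Sylow.conj_eq_normalizer_conj_of_mem_centralizer S t g⁻¹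
      (mem_centralizer_iff.2 fun s hs => htcen s hs) (by
        rw [inv_inv]
        exact mem_centralizer_iff.2 fun s hs => hgc s hs)
    rw [inv_inv] at he
    by_cases hnN : n ∈ N
    · have hm : n⁻¹ ∈ M := Subgroup.mem_inf.2 ⟨inv_mem hnN, inv_mem hn⟩
      have := hMfix n⁻¹ hm
      rw [inv_inv] at this
      rw [he, this]
    · have hm : n⁻¹ * t ∈ M := Subgroup.mem_inf.2 ⟨hmul_mem (fun e => hnN (by simpa using inv_mem e)) htN,
        mul_mem (inv_mem hn) (le_normalizer htS)⟩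
      have := hMfix (n⁻¹ * t) hm
      rw [show n⁻¹ * t * t * (n⁻¹ * t)⁻¹ = n⁻¹ * t * n by group] at this
      rw [he, this]
  obtain ⟨O, hO, hOodd, hOc⟩ := ZStar.exists_odd_normal hiso
  have hON : O ≤ N := fun o ho => by
    have h1 : N.relIndex O ∣ 2 := hidx ▸ relIndex_dvd_index_of_normal N O
    have h2 : N.relIndex O ∣ Nat.card O := Subgroup.index_dvd_card _
    rcases (Nat.dvd_prime Nat.prime_two).1 h1 with e | e
    · exact relIndex_eq_one.1 e ho
    · rw [e] at h2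
      exact absurd (even_iff_two_dvd.2 h2) (Nat.not_even_iff_odd.2 hOodd)
  have hO1 : O = ⊥ := by
    haveI := hO
    haveI := hs
    rcases (inferInstance : (O.subgroupOf N).Normal).eq_bot_or_eq_top with e | e
    · rwa [subgroupOf_eq_bot, disjoint_iff, inf_eq_left.2 hON] at e
    · haveI : Group.IsSolvable O := S0205.result hOodd
      exact absurd (Group.isSolvable_of_isSolvable_injective
        (f := Subgroup.inclusion (subgroupOf_eq_top.1 e)) (Subgroup.inclusion_injective _)) hns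
  have hcent : t ∈ centralizer (N : Set X) := mem_centralizer_iff.2 fun n _ => by
    have hmem := hOc n
    rw [hO1, mem_bot] at hmem
    exact (mul_inv_eq_iff_eq_mul.1 (mul_inv_eq_one.1 hmem)).symm
  rw [hC, mem_bot] at hcent
  exact htN (hcent ▸ one_mem N)

/-- With torus data `N` has no extension of index two with cyclic Sylow 2-intersections and trivial centraliser. -/
theorem false_of_torus (hX : CycInter X) (N : Subgroup X) [N.Normal] (hidx : N.index = 2)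
    (hC : centralizer (N : Set X) = ⊥) (hs : IsSimpleGroup N) (hns : ¬ Group.IsSolvable N)
    (hT : ∀ P : Sylow 2 N, TorusData (P : Subgroup N)) : False := by
  haveI : Fact (Nat.Prime 2) := ⟨Nat.prime_two⟩
  obtain ⟨S⟩ : Nonempty (Sylow 2 X) := inferInstance
  exact false_of_torus_at N hidx hC hs hns hT S fun x _ hx =>
    mem_normalizer_of_noncyclic hX (not_isCyclic_inf hns S) inf_le_left hx

end Cfsg.Agent.Invol.CentRank.Cyc
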