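import Cfsg.Agent.Lib.Invol.CentRank.Basic
import Cfsg.Agent.Lib.Transfer.ClassThree.Tools
import Cfsg.Agent.Lib.Invol.MinNonCA.Basic

/-!
# Cyclic Sylow 2-intersections: quotients, subgroups, the socle

The hypothesis passes to quotients and subgroups; a non-cyclic 2-subgroup has a solvable centraliser, so with
trivial solvable radical the socle is simple and its normalisers of Sylow 2-subgroups fix the Sylow subgroup above.
-/

set_option autoImplicit false
set_option linter.style.haveILetI false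
set_option linter.unusedSectionVars false

open Subgroup

namespace Cfsg.Agent.Invol.CentRank.Cyc

universe u

/-- Distinct Sylow 2-subgroups have cyclic intersection. -/
def CycInter (G : Type*) [Group G] : Prop :=
  ∀ S T : Sylow 2 G, S ≠ T → IsCyclic ↥((S : Subgroup G) ⊓ (T : Subgroup G))

theorem isCyclic_of_le {G : Type*} [Group G] {H K : Subgroup G} (hK : IsCyclic K) (h : H ≤ K) : IsCyclic H :=
  haveI := hK
  isCyclic_of_injective (Subgroup.inclusion h) (Subgroup.inclusion_injective h)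

variable {G : Type u} [Group G] [Finite G] (hG : CycInter G)
include hG

theorem cycInter_subgroup (H : Subgroup G) : CycInter H := by
  haveI : Fact (Nat.Prime 2) := ⟨Nat.prime_two⟩
  intro P Q hPQ
  obtain ⟨S, hS⟩ := (P.isPGroup'.map H.subtype).exists_le_sylow
  obtain ⟨T, hT⟩ := (Q.isPGroup'.map H.subtype).exists_le_sylow
  have hne : S ≠ T := fun e => hPQ <| by
    subst e
    have hp : IsPGroup 2 ((S : Subgroup G).comap H.subtype) := S.isPGroup'.comap_subtype
    have e1 := P.3 hp (map_le_iff_le_comap.1 hS)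
    have e2 := Q.3 hp (map_le_iff_le_comap.1 hT)
    exact Sylow.ext (e1.symm.trans e2)
  haveI := hG S T hne
  exact isCyclic_of_injective
    ((H.subtype.comp ((P : Subgroup H) ⊓ (Q : Subgroup H)).subtype).codRestrict
      ((S : Subgroup G) ⊓ (T : Subgroup G)) fun x => ⟨hS ⟨x, x.2.1, rfl⟩, hT ⟨x, x.2.2, rfl⟩⟩)
    fun a b e => Subtype.ext (H.subtype_injective (congrArg Subtype.val e :))

theorem cycInter_quotient (N : Subgroup G) [N.Normal] : CycInter (G ⧸ N) := by
  haveI : Fact (Nat.Prime 2) := ⟨Nat.prime_two⟩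
  intro S T hST
  have hπ := QuotientGroup.mk'_surjective N
  obtain ⟨S₀, rfl⟩ := Sylow.mapSurjective_surjective hπ 2 S
  obtain ⟨T₀, rfl⟩ := Sylow.mapSurjective_surjective hπ 2 T
  set π := QuotientGroup.mk' N with hπdef
  set I := ((S₀.mapSurjective hπ : Sylow 2 (G ⧸ N)) : Subgroup (G ⧸ N)) ⊓
    ((T₀.mapSurjective hπ : Sylow 2 (G ⧸ N)) : Subgroup (G ⧸ N)) with hI
  -- a Sylow subgroup of the preimage
  obtain ⟨D⟩ : Nonempty (Sylow 2 ↥(I.comap π)) := inferInstance
  let D₀ : Subgroup G := (D : Subgroup ↥(I.comap π)).map (I.comap π).subtype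
  have hsub : ∀ U : Sylow 2 G, I ≤ (U : Subgroup G).map π →
      ∃ V : Sylow 2 G, (V : Subgroup G).map π = (U : Subgroup G).map π ∧ D₀ ≤ (V : Subgroup G) := by
    intro U hU
    have hle : D₀ ≤ (U : Subgroup G) ⊔ N := by
      rintro _ ⟨x, -, rfl⟩
      obtain ⟨v, hv, e⟩ := hU x.2
      rw [← mul_inv_cancel_left v ((I.comap π).subtype x)]
      exact mul_mem (mem_sup_left hv) (mem_sup_right (QuotientGroup.eq.1 e))
    set M := (U : Subgroup G) ⊔ N with hM
    have hp : IsPGroup 2 (D₀.subgroupOf M) := (D.isPGroup'.map _).comap_subtype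
    obtain ⟨R, hR⟩ := hp.exists_le_sylow
    obtain ⟨g, hg⟩ := MulAction.exists_smul_eq M (U.subtype (le_sup_left : (U : Subgroup G) ≤ M)) R
    refine ⟨(g : G) • U, ?_, fun x hx => ?_⟩
    · have hgU : π g ∈ (U : Subgroup G).map π := by
        obtain ⟨v, hv, n, hn, e⟩ := Subgroup.mem_sup_of_normal_right.1 g.2
        exact ⟨v, hv, by rw [← e, map_mul, show π n = 1 from (QuotientGroup.eq_one_iff n).2 hn, mul_one]⟩
      rw [Sylow.coe_subgroup_smul]
      ext w
      constructor
      · rintro ⟨_, ⟨v, hv, rfl⟩, rfl⟩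
        show π ((g : G) * v * (g : G)⁻¹) ∈ _
        rw [map_mul, map_mul, map_inv]
        exact mul_mem (mul_mem hgU ⟨v, hv, rfl⟩) (inv_mem hgU)
      · intro hw
        obtain ⟨v, hv, e⟩ := (mul_mem (mul_mem (inv_mem hgU) hw) hgU : (π g)⁻¹ * w * π g ∈ (U : Subgroup G).map π)
        refine ⟨_, ⟨v, hv, rfl⟩, ?_⟩
        show π ((g : G) * v * (g : G)⁻¹) = w
        rw [map_mul, map_mul, map_inv, e]
        group
    · have hxM : x ∈ M := hle hx
      have h1 : (⟨x, hxM⟩ : M) ∈ (R : Subgroup M) := hR hx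
      rw [← hg, Sylow.smul_subtype] at h1
      exact h1
  obtain ⟨V, hV, hDV⟩ := hsub S₀ inf_le_left
  obtain ⟨W, hW, hDW⟩ := hsub T₀ inf_le_right
  have hne : V ≠ W := fun e => hST (Sylow.ext (show (S₀ : Subgroup G).map π = (T₀ : Subgroup G).map π by
    rw [← hV, e, hW]))
  haveI : IsCyclic D₀ := isCyclic_of_le (hG V W hne) (le_inf hDV hDW)
  -- its image is everything
  let χ : ↥(I.comap π) →* ↥I := (π.comp (I.comap π).subtype).codRestrict I fun x => x.2
  have hχ : Function.Surjective χ := fun w => by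
    obtain ⟨x, hx⟩ := hπ (w : G ⧸ N)
    exact ⟨⟨x, by rw [mem_comap, hx]; exact w.2⟩, Subtype.ext hx⟩
  have htop : ((D.mapSurjective hχ : Sylow 2 ↥I) : Subgroup ↥I) = ⊤ :=
    ((D.mapSurjective hχ).3 (((S₀.mapSurjective hπ).isPGroup'.to_le inf_le_left).to_subgroup ⊤) le_top).symm
  let ψ : ↥D₀ →* ↥I := (π.comp D₀.subtype).codRestrict I fun x => by
    obtain ⟨_, y, -, rfl⟩ := x
    exact y.2
  refine isCyclic_of_surjective ψ fun w => ?_
  obtain ⟨x, hx, e⟩ := (htop.ge (mem_top w) : w ∈ (D : Subgroup ↥(I.comap π)).map χ)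
  exact ⟨⟨x, x, hx, rfl⟩, Subtype.ext (congrArg Subtype.val e :)⟩

theorem pRankLE_one {S T : Sylow 2 G} (hST : S ≠ T) :
    Cfsg.PRankLE 2 1 ↥((S : Subgroup G) ⊓ (T : Subgroup G)) := by
  haveI := hG S T hST
  intro A _ hA2
  obtain ⟨g, hg⟩ := IsCyclic.exists_generator (α := A)
  rw [← orderOf_eq_card_of_forall_mem_zpowers hg, pow_one]
  exact Nat.le_of_dvd two_pos (orderOf_dvd_of_pow_eq_one (Subtype.ext (hA2 _ g.2)))

theorem fourUnique : FourUnique G :=
  fourUnique_of_rankOne fun S T hne _ => pRankLE_one hG hne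

theorem mem_normalizer_of_noncyclic {S : Sylow 2 G} {A : Subgroup G} (hA : ¬ IsCyclic A)
    (hAS : A ≤ (S : Subgroup G)) {x : G} (hx : ∀ a ∈ A, x * a * x⁻¹ ∈ (S : Subgroup G)) :
    x ∈ normalizer ((S : Subgroup G) : Set G) := by
  by_contra hne
  have h1 : x⁻¹ • S ≠ S := fun e => hne (by simpa using inv_mem (Sylow.smul_eq_iff_mem_normalizer.1 e))
  refine hA (isCyclic_of_le (hG _ _ h1.symm) fun a ha => ⟨hAS ha, ?_⟩)
  show a ∈ ((x⁻¹ • S : Sylow 2 G) : Subgroup G)
  exact mem_smul_sylow.2 (by rw [inv_inv]; exact hx a ha)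

theorem isSolvable_of_centralizes {A M : Subgroup G} (hA : ¬ IsCyclic A) (hA2 : IsPGroup 2 A)
    (hM : ∀ m ∈ M, ∀ a ∈ A, m * a = a * m) : Group.IsSolvable M := by
  haveI : Fact (Nat.Prime 2) := ⟨Nat.prime_two⟩
  obtain ⟨S, hS⟩ := hA2.exists_le_sylow
  set N := normalizer ((S : Subgroup G) : Set G) with hN
  have hle : M ≤ N := fun m hm => mem_normalizer_of_noncyclic hG hA hS fun a ha => by
    rw [hM m hm a ha, mul_inv_cancel_right]; exact hS ha
  set S' := (S : Subgroup G).subgroupOf N with hS'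
  haveI : S'.Normal := Subgroup.normal_in_normalizer
  haveI : Group.IsNilpotent S' :=
    ((S.isPGroup').of_equiv (Subgroup.subgroupOfEquivOfLe le_normalizer).symm).isNilpotent
  haveI : Group.IsSolvable S' := inferInstance
  haveI : Group.IsSolvable (N ⧸ S') := S0205.result (Nat.not_even_iff_odd.1 fun he =>
    S.not_dvd_index ((even_iff_two_dvd.1 he).trans (relIndex_dvd_index_of_le le_normalizer)))
  haveI : Group.IsSolvable N := (Group.isSolvable_iff_subgroup_quotient S').2 ⟨inferInstance, inferInstance⟩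
  exact Group.isSolvable_of_isSolvable_injective (f := Subgroup.inclusion hle) (Subgroup.inclusion_injective hle)

omit hG in
/-- A non-solvable normal subgroup meets a Sylow 2-subgroup in a non-cyclic group. -/
theorem not_isCyclic_inf {N : Subgroup G} [N.Normal] (hns : ¬ Group.IsSolvable N) (S : Sylow 2 G) :
    ¬ IsCyclic ↥((S : Subgroup G) ⊓ N) := by
  haveI : Fact (Nat.Prime 2) := ⟨Nat.prime_two⟩
  intro hc
  let P : Sylow 2 N := (S.isPGroup'.comap_subtype (K := N)).toSylow (Grp.sylow_inf_normal_relIndex S N)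
  let f : (P : Subgroup N) →* ↥((S : Subgroup G) ⊓ N) :=
    (N.subtype.comp (P : Subgroup N).subtype).codRestrict _ fun x => ⟨x.2, (x : N).2⟩
  haveI : IsCyclic (P : Subgroup N) :=
    isCyclic_of_injective f fun a b e => Subtype.ext (N.subtype_injective (congrArg Subtype.val e :))
  exact hns (Transfer.ClassThree.isSolvable_of_cyclic_sylow_two P)

/-- With trivial solvable radical the socle is simple. -/
theorem exists_socle (hns : ¬ Group.IsSolvable G)
    (hrad : ∀ N : Subgroup G, N.Normal → Group.IsSolvable N → N = ⊥) :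
    ∃ N : Subgroup G, N.Normal ∧ IsSimpleGroup N ∧ ¬ Group.IsSolvable N ∧ centralizer (N : Set G) = ⊥ := by
  classical
  haveI : Fact (Nat.Prime 2) := ⟨Nat.prime_two⟩
  obtain ⟨S⟩ : Nonempty (Sylow 2 G) := inferInstance
  -- a minimal normal subgroup
  have hex : ∃ N : Subgroup G, N.Normal ∧ N ≠ ⊥ := by
    refine ⟨⊤, inferInstance, fun e => hns ?_⟩
    haveI : Subsingleton G := Subgroup.subsingleton_iff.1 (subsingleton_of_bot_eq_top e.symm)
    infer_instance
  obtain ⟨N, hN⟩ := Set.Finite.exists_minimal (s := {N : Subgroup G | N.Normal ∧ N ≠ ⊥}) (Set.toFinite _) hex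
  obtain ⟨⟨hNn, hN1⟩, hmin⟩ := hN
  haveI := hNn
  have hNs : ¬ Group.IsSolvable N := fun h => hN1 (hrad N hNn h)
  have hP := not_isCyclic_inf hNs S
  have hC : centralizer (N : Set G) = ⊥ := hrad _ inferInstance
    (isSolvable_of_centralizes hG hP (S.isPGroup'.to_le inf_le_left) fun m hm a ha =>
      (mem_centralizer_iff.1 hm a ha.2).symm)
  refine ⟨N, hNn, ?_, hNs, hC⟩
  haveI : Nontrivial N := (Subgroup.nontrivial_iff_ne_bot N).2 hN1
  refine ⟨fun M hM => ?_⟩
  by_contra hcon
  rw [not_or] at hcon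
  -- `L` minimal among the non-trivial subgroups normal in `N`
  let Ω : Set (Subgroup G) := {L | L ≤ N ∧ L ≠ ⊥ ∧ ∀ n ∈ N, ∀ x ∈ L, n * x * n⁻¹ ∈ L}
  have hΩ : M.map N.subtype ∈ Ω := by
    refine ⟨map_subtype_le _, fun e => hcon.1 ((map_eq_bot_iff_of_injective _ N.subtype_injective).1 e), ?_⟩
    rintro n hn _ ⟨x, hx, rfl⟩
    exact ⟨_, hM.conj_mem x hx ⟨n, hn⟩, rfl⟩
  obtain ⟨L, hLle, hL⟩ := (Set.toFinite Ω).exists_le_minimal hΩ
  obtain ⟨hLΩ, hLmin⟩ := hL
  obtain ⟨hLN, hL1, hLn⟩ := hLΩ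
  haveI hLn' : (L.subgroupOf N).Normal := ⟨fun x hx n => hLn n n.2 x hx⟩
  -- `L` is not solvable
  have hLs : ¬ Group.IsSolvable (L.subgroupOf N) := by
    intro h
    obtain ⟨R, hRn, hRs, hRmax⟩ : ∃ R : Subgroup N, R.Normal ∧ Group.IsSolvable R ∧
        ∀ K : Subgroup N, K.Normal → Group.IsSolvable K → K ≤ R := by
      obtain ⟨R, ⟨hR1, hR2⟩, hRm⟩ := (Set.toFinite {R : Subgroup N | R.Normal ∧ Group.IsSolvable R}).exists_maximal
        ⟨⊥, inferInstance, inferInstance⟩
      refine ⟨R, hR1, hR2, fun K hK hKs => ?_⟩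
      haveI := hR1; haveI := hR2; haveI := hKs; haveI := hK
      exact le_sup_right.trans (hRm ⟨inferInstance, MinNonCA.isSolvable_sup inferInstance inferInstance⟩ le_sup_left)
    haveI hRc : R.Characteristic := characteristic_iff_map_le.2 fun e => by
      haveI := hRs
      exact hRmax _ (Normal.map hRn e.toMonoidHom e.surjective)
        (Group.isSolvable_of_surjective (f := e.toMonoidHom.subgroupMap R) (e.toMonoidHom.subgroupMap_surjective R))
    have hRG : (R.map N.subtype).Normal := inferInstance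
    haveI := hRs
    have h0 := hrad _ hRG
      (Group.isSolvable_of_surjective (f := N.subtype.subgroupMap R) (N.subtype.subgroupMap_surjective R))
    have hLR : L.subgroupOf N ≤ R := hRmax _ hLn' h
    rw [(map_eq_bot_iff_of_injective _ N.subtype_injective).1 h0, le_bot_iff, subgroupOf_eq_bot,
      disjoint_iff, inf_eq_left.2 hLN] at hLR
    exact hL1 hLR
  -- every conjugate of `L` equals `L`
  have hconj : ∀ g : G, ∀ x ∈ L, g * x * g⁻¹ ∈ L := by
    intro g
    by_contra hg
    let L' := L.map (MulAut.conj g).toMonoidHom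
    have hL'N : ∀ n ∈ N, ∀ x ∈ L', n * x * n⁻¹ ∈ L' := by
      rintro n hn _ ⟨y, hy, rfl⟩
      refine ⟨(g⁻¹ * n * g) * y * (g⁻¹ * n * g)⁻¹,
        hLn _ (by simpa using hNn.conj_mem n hn g⁻¹) y hy, ?_⟩
      simp [mul_assoc]
    have hinf : L ⊓ L' = ⊥ := by
      by_contra hne
      have hmem : L ⊓ L' ∈ Ω := ⟨inf_le_left.trans hLN, hne, fun n hn x hx => ⟨hLn n hn x hx.1, hL'N n hn x hx.2⟩⟩
      have hle : L ≤ L' := (hLmin hmem inf_le_left).trans inf_le_right
      have heq : L = L' := eq_of_le_of_card_ge hle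
        (card_map_of_injective (f := (MulAut.conj g).toMonoidHom) (MulAut.conj g).injective).le
      exact hg fun x hx => heq.ge ⟨x, hx, rfl⟩
    have hcomm : ∀ a ∈ L, ∀ b ∈ L', a * b = b * a := fun a ha b hb => by
      have hb' : b ∈ N := by
        obtain ⟨y, hy, rfl⟩ := hb
        exact hNn.conj_mem y (hLN hy) g
      have h1 : a * b * a⁻¹ * b⁻¹ ∈ L ⊓ L' := by
        refine Subgroup.mem_inf.2 ⟨?_, mul_mem (hL'N a (hLN ha) b hb) (inv_mem hb)⟩
        rw [show a * b * a⁻¹ * b⁻¹ = a * (b * a⁻¹ * b⁻¹) by group]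
        exact mul_mem ha (hLn b hb' _ (inv_mem ha))
      rw [hinf, mem_bot] at h1
      calc a * b = (a * b * a⁻¹ * b⁻¹) * (b * a) := by group
        _ = b * a := by rw [h1, one_mul]
    -- a Sylow subgroup of `L` is not cyclic and centralised by `L'`
    haveI : Group.IsSolvable L' := by
      obtain ⟨T⟩ : Nonempty (Sylow 2 N) := inferInstance
      have hT := not_isCyclic_inf (N := L.subgroupOf N) hLs T
      refine isSolvable_of_centralizes hG (A := ((T : Subgroup N) ⊓ L.subgroupOf N).map N.subtype) (fun hc => hT ?_)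
        ((T.isPGroup'.to_le inf_le_left).map _) fun b hb a ha => ?_
      · haveI := hc
        exact isCyclic_of_injective
          ((Subgroup.equivMapOfInjective _ N.subtype N.subtype_injective).toMonoidHom)
          (MulEquiv.injective _)
      · obtain ⟨y, hy, rfl⟩ := ha
        exact (hcomm _ hy.2 b hb).symm
    refine hLs ?_
    let φ : ↥(L.subgroupOf N) →* ↥L' :=
      ((MulAut.conj g).toMonoidHom.comp (N.subtype.comp (L.subgroupOf N).subtype)).codRestrict L'
        fun x => ⟨_, x.2, rfl⟩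
    exact Group.isSolvable_of_isSolvable_injective (f := φ) fun a b e =>
      Subtype.ext (Subtype.ext ((MulAut.conj g).injective (congrArg Subtype.val e :)))
  have hLN' : N ≤ L := hmin ⟨⟨fun x hx g => hconj g x hx⟩, hL1⟩ hLN
  refine hcon.2 (eq_top_iff.2 fun n _ => ?_)
  obtain ⟨m, hm, e⟩ := hLle (hLN' n.2)
  rwa [← (Subtype.ext e : m = n)]

end Cfsg.Agent.Invol.CentRank.Cyc
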